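import Cfsg.Agent.Lib.Char.ConstantDrop.Proj
import Cfsg.Agent.Lib.Char.PrincipalBlock
import Cfsg.Agent.Lib.Char.OneClassProducts
import Cfsg.Agent.Lib.Char.BlockInter
import Cfsg.Agent.Lib.Char.Congr
import Cfsg.Agent.Lib.Char.Codegree

/-!
# Column sums of the principal 2-block
-/

set_option autoImplicit false
set_option linter.unusedSectionVars false
set_option linter.style.haveILetI false

namespace Cfsg.Agent.Char.ConstDrop

open Cfsg Module
open scoped ComplexConjugate

universe u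

variable {G : Type u} [Group G] [Fintype G] {M : Ideal AlgInt}

/-- The trivial character. -/
def oneI (G : Type u) [Group G] : IrrCharacter G := ⟨fun _ => 1, isIrrCharacter_one⟩

@[simp] theorem oneI_apply (g : G) : ((oneI G : IrrCharacter G) : G → ℂ) g = 1 := rfl

open scoped Classical in
/-- The principal block. -/
noncomputable def PB (M : Ideal AlgInt) (G : Type u) [Group G] [Fintype G] :
    Finset (IrrCharacter G) :=
  Finset.univ.filter fun χ => χ ∈ principalBlock M G

open scoped Classical in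
/-- The nontrivial members of the principal block. -/
noncomputable def SB (M : Ideal AlgInt) (G : Type u) [Group G] [Fintype G] :
    Finset (IrrCharacter G) :=
  (PB M G).erase (oneI G)

theorem mem_PB {χ : IrrCharacter G} : χ ∈ PB M G ↔ χ ∈ principalBlock M G := by
  classical
  simp [PB]

theorem mem_SB {χ : IrrCharacter G} :
    χ ∈ SB M G ↔ χ ∈ principalBlock M G ∧ (χ : G → ℂ) ≠ fun _ => 1 := by
  classical
  rw [SB, Finset.mem_erase, mem_PB, and_comm]
  exact and_congr_right fun _ => not_congr ⟨fun h => h ▸ rfl, fun h => Subtype.ext h⟩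

theorem sum_PB {p : ℕ} (hM : IsPModular p M) (f : IrrCharacter G → ℂ) :
    ∑ χ ∈ PB M G, f χ = f (oneI G) + ∑ χ ∈ SB M G, f χ := by
  classical
  rw [SB, Finset.add_sum_erase]
  exact mem_PB.2 (one_mem_principal hM)

theorem oneI_mem_PB {p : ℕ} (hM : IsPModular p M) : oneI G ∈ PB M G :=
  mem_PB.2 (one_mem_principal hM)

/-- Weak orthogonality. -/
theorem orth_sing_reg (hM : IsPModular 2 M) {v x : G} (hv : 2 ∣ orderOf v) (hx : ¬ 2 ∣ orderOf x) :
    ∑ χ ∈ PB M G, (χ : G → ℂ) v * conj ((χ : G → ℂ) x) = 0 := by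
  classical
  have h := weak_orthogonality hM (isPBlock_principalBlock M) hx hv
  rw [finsum_mem_irr] at h
  have := congrArg conj h
  rw [map_sum, map_zero] at this
  rw [← this]
  refine Finset.sum_congr (by ext; simp [PB]) fun χ _ => ?_
  simp [mul_comm]

theorem orth_reg_sing (hM : IsPModular 2 M) {v x : G} (hv : 2 ∣ orderOf v) (hx : ¬ 2 ∣ orderOf x) :
    ∑ χ ∈ PB M G, (χ : G → ℂ) x * conj ((χ : G → ℂ) v) = 0 := by
  have := congrArg conj (orth_sing_reg hM hv hx)
  rw [map_sum, map_zero] at this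
  rw [← this]
  exact Finset.sum_congr rfl fun χ _ => by simp [mul_comm]

theorem orth_prod (hM : IsPModular 2 M) {v x : G} (hv : 2 ∣ orderOf v) (hx : ¬ 2 ∣ orderOf x) :
    ∑ χ ∈ PB M G, (χ : G → ℂ) v * (χ : G → ℂ) x = 0 := by
  have h := orth_sing_reg hM hv (x := x⁻¹) (by rwa [orderOf_inv])
  rw [← h]
  exact Finset.sum_congr rfl fun χ _ => by rw [char_inv (irr_isCharacter χ.2), Complex.conj_conj]

theorem orth_degree (hM : IsPModular 2 M) {v : G} (hv : 2 ∣ orderOf v) :
    ∑ χ ∈ PB M G, (χ : G → ℂ) 1 * (χ : G → ℂ) v = 0 := by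
  rw [← orth_prod hM hv (x := 1) (by simp)]
  exact Finset.sum_congr rfl fun χ _ => mul_comm _ _

/-- Orthogonality between different sections. -/
theorem orth_sections (hM : IsPModular 2 M) {u v : G} (h : ¬ IsConj (ppt 2 v) (ppt 2 u)) :
    ∑ χ ∈ PB M G, conj ((χ : G → ℂ) u) * (χ : G → ℂ) v = 0 := by
  classical
  have h2 : (2 : ℕ).Prime := Nat.prime_two
  have hc := (intClassFun_classInd (G := G) (pmod_prime hM) u).1
  have hz := blockPart_eq_zero_of_isPPart hM (ppt_ppower h2 v) hc (fun w z hw hz => ?_)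
    (isPBlock_principalBlock (G := G) M) (u := v) (isPPart_ppt h2 v) (IsConj.refl _)
  · rw [blockPart_eq] at hz
    simp only [classInner_classInd _ (isClassFunction_character (irr_isCharacter (Subtype.prop _))),
      mul_assoc, ← Finset.mul_sum] at hz
    rw [mul_eq_zero, inv_eq_zero, Nat.cast_eq_zero] at hz
    refine Eq.trans (Finset.sum_congr (by ext; simp [PB]) fun χ _ => rfl)
      (hz.resolve_left Nat.card_pos.ne')
  · rw [classInd, if_neg]
    intro huw
    obtain ⟨c, hcw⟩ := isConj_iff.1 huw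
    refine h (hz.trans (IsConj.symm (isConj_iff.2 ⟨c, ?_⟩)))
    rw [← ppt_conj h2, hcw, ppt_eq h2 hw]

/-- The sum of a column of the principal block. -/
noncomputable def Phi (M : Ideal AlgInt) (v : G) : ℂ := ∑ χ ∈ PB M G, (χ : G → ℂ) v

theorem Phi_eq (hM : IsPModular 2 M) (v : G) : Phi M v = 1 + ∑ χ ∈ SB M G, (χ : G → ℂ) v := by
  rw [Phi, sum_PB hM]; rfl

theorem memLR_half_trace {p : ℕ} (hM : IsPModular p M) {χ : G → ℂ} (hχ : IsCharacter G χ) {t y : G}
    (ht : t * t = 1) (hty : Commute t y) : MemLocalRing M (((χ y + χ (t * y)) / 2 : ℂ)) := by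
  classical
  obtain ⟨n, ρ, rfl⟩ := hχ
  set E : Module.End ℂ (Fin n → ℂ) := (2 : ℂ)⁻¹ • (1 + ρ t) with hE
  have htt : ρ t * ρ t = 1 := by rw [← map_mul, ht, map_one]
  have hEE : E * E = E := by
    have hsq : (1 + ρ t) * (1 + ρ t) = (2 : ℂ) • (1 + ρ t) := by
      rw [add_mul, one_mul, mul_add, mul_one, htt, two_smul]
      abel
    rw [hE, smul_mul_smul_comm, hsq, smul_smul]
    norm_num
  have hcomm : ∀ h ∈ Subgroup.centralizer ({t} : Set G), ρ h * E = E * ρ h := fun h hh => by
    rw [hE, mul_smul_comm, smul_mul_assoc, mul_add, add_mul, mul_one, one_mul, ← map_mul, ← map_mul,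
      Subgroup.mem_centralizer_singleton_iff.1 hh]
  have hc := proj_char ρ E hEE (Subgroup.centralizer ({t} : Set G)) hcomm
  have h1 := memLR_char (pmod_prime hM) hc ⟨y, Subgroup.mem_centralizer_singleton_iff.2 hty.eq.symm⟩
  convert h1 using 1
  simp only [hE, mul_smul_comm, map_smul, mul_add, mul_one, map_add, smul_eq_mul,
    Representation.character, map_mul]
  rw [LinearMap.trace_mul_comm ℂ (ρ t) (ρ y)]
  ring

theorem char_sq_congr (hM : IsPModular 2 M) {χ : G → ℂ} (hχ : IsCharacter G χ) (y : G) :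
    MemLocalIdeal M (χ (y ^ 2) - χ y * χ y) := by
  classical
  have hP := pmod_prime hM
  obtain ⟨n, ρ, rfl⟩ := hχ
  obtain ⟨μ, hμ, htr, -⟩ := exists_eigenvalues ρ y
  have h1 := htr 1
  simp only [pow_one] at h1
  rw [htr 2, h1, Finset.sum_mul_sum, ← Finset.sum_sub_distrib]
  have e : ∑ i, (μ i ^ 2 - ∑ j, μ i * μ j) =
      -∑ i, ∑ j ∈ Finset.univ.filter (fun j => j ≠ i), μ i * μ j := by
    rw [← Finset.sum_neg_distrib]
    refine Finset.sum_congr rfl fun i _ => ?_
    rw [← Finset.sum_filter_add_sum_filter_not Finset.univ (fun j => j ≠ i)]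
    simp [sq, Finset.filter_eq']
  rw [e]
  refine memLI_neg hP ?_
  obtain ⟨T, hT⟩ : ∃ T : ℂ, T = ∑ i, ∑ j ∈ Finset.univ.filter (fun j => i < j), μ i * μ j := ⟨_, rfl⟩
  have hTR : MemLocalRing M T := hT ▸ memLR_sum hP _ _ fun i _ => memLR_sum hP _ _ fun j _ =>
    memLR_mul hP
      (memLocalRing_of_isIntegral hP.ne_top (root_of_unity_isIntegral (orderOf_pos y).ne' (hμ i)))
      (memLocalRing_of_isIntegral hP.ne_top (root_of_unity_isIntegral (orderOf_pos y).ne' (hμ j)))
  have hsplit : ∑ i, ∑ j ∈ Finset.univ.filter (fun j => j ≠ i), μ i * μ j = 2 * T := by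
    rw [two_mul]
    conv_rhs => arg 2; rw [hT, Finset.sum_comm' (t' := Finset.univ)
      (s' := fun j => Finset.univ.filter (fun i => i < j)) (by simp)]
    rw [hT, ← Finset.sum_add_distrib]
    refine Finset.sum_congr rfl fun i _ => ?_
    rw [← Finset.sum_filter_add_sum_filter_not (Finset.univ.filter (fun j => j ≠ i)) (fun j => i < j),
      Finset.filter_filter, Finset.filter_filter]
    congr 1
    · refine Finset.sum_congr (Finset.ext fun j => ?_) fun _ _ => rfl
      simpa using fun h => (ne_of_lt h).symm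
    · refine Finset.sum_congr (Finset.ext fun j => ?_) fun _ _ => mul_comm _ _
      simp only [Finset.mem_filter, Finset.mem_univ, true_and, not_lt]
      exact ⟨fun h => lt_of_le_of_ne h.2 h.1, fun h => ⟨ne_of_lt h, le_of_lt h⟩⟩
  rw [hsplit]
  exact memLI_mul_right hP (by simpa using memLI_p hM) hTR

/-- The column sums at regular elements centralizing an involution are even. -/
theorem Phi_even (hM : IsPModular 2 M) {t x : G} (ht : orderOf t = 2) (hx : ¬ 2 ∣ orderOf x)
    (htx : Commute t x) : MemLocalIdeal M (Phi M x) := by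
  classical
  have hP := pmod_prime hM
  obtain ⟨j, hj⟩ : ∃ j, orderOf x = 2 * j + 1 := ⟨orderOf x / 2, by omega⟩
  set y := x ^ (j + 1) with hy
  have hy2 : y ^ 2 = x := by
    rw [hy, ← pow_mul, show (j + 1) * 2 = orderOf x + 1 by omega, pow_succ, pow_orderOf_eq_one,
      one_mul]
  have hyreg : ¬ 2 ∣ orderOf y := fun h => hx (h.trans (orderOf_pow_dvd _))
  have htt : t * t = 1 := by rw [← sq, ← ht]; exact pow_orderOf_eq_one t
  have hty : Commute t y := htx.pow_right _
  have hsing : 2 ∣ orderOf (t * y) := by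
    rw [hty.orderOf_mul_eq_mul_orderOf_of_coprime (by
      rw [ht]; exact (Nat.prime_two.coprime_iff_not_dvd).2 hyreg), ht]
    exact dvd_mul_right 2 _
  have h0 := orth_prod hM hsing hyreg
  have h1 : ∑ χ ∈ PB M G, (χ : G → ℂ) y * (χ : G → ℂ) y =
      2 * ∑ χ ∈ PB M G, (χ : G → ℂ) y * (((χ : G → ℂ) y + (χ : G → ℂ) (t * y)) / 2) := by
    rw [Finset.mul_sum, ← add_zero (∑ χ ∈ PB M G, (χ : G → ℂ) y * (χ : G → ℂ) y), ← h0,
      ← Finset.sum_add_distrib]
    exact Finset.sum_congr rfl fun χ _ => by ring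
  have h2 : MemLocalIdeal M (∑ χ ∈ PB M G, (χ : G → ℂ) y * (χ : G → ℂ) y) := by
    rw [h1]
    exact memLI_mul_right hP (by simpa using memLI_p hM) (memLR_sum hP _ _ fun χ _ =>
      memLR_mul hP (memLR_char hP (irr_isCharacter χ.2) _)
        (memLR_half_trace hM (irr_isCharacter χ.2) htt hty))
  refine memLI_congr hP ?_ h2
  rw [Phi, ← Finset.sum_sub_distrib]
  refine memLI_sum hP _ _ fun χ _ => ?_
  rw [← hy2]
  exact char_sq_congr hM (irr_isCharacter χ.2) y

theorem Phi_congr_one (hM : IsPModular 2 M) {v : G} (hv : ∃ j : ℕ, orderOf v = 2 ^ j) :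
    MemLocalIdeal M (Phi M v - Phi M (1 : G)) := by
  rw [Phi, Phi, ← Finset.sum_sub_distrib]
  exact memLI_sum (pmod_prime hM) _ _ fun χ _ => char_congr_deg hM (irr_isCharacter χ.2) hv

theorem memLI_two_iff_int (hM : IsPModular 2 M) (z : ℤ) : MemLocalIdeal M (z : ℂ) ↔ Even z := by
  rw [memLI_intCast_iff hM, even_iff_two_dvd]; rfl

end Cfsg.Agent.Char.ConstDrop
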