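import Cfsg.Agent.Lib.Char.ConstantDrop.Forward
import Cfsg.Agent.Lib.Char.PSL2Degrees
import Cfsg.Agent.Lib.Solv.CIT.PSLTwoData

/-!
# The drop in the cyclic group of order two and in the linear groups
-/

set_option autoImplicit false
set_option linter.unusedSectionVars false
set_option linter.style.haveILetI false

namespace Cfsg.Agent.Char.ConstDrop

open Cfsg Module
open scoped ComplexConjugate

universe u

section General

variable {G : Type u} [Group G] [Fintype G]

/-- The value at an element of order dividing two is an integer. -/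
theorem value_invol_int (χ : IrrCharacter G) {v : G} (hv : v * v = 1) :
    ∃ e : ℤ, (χ : G → ℂ) v = (e : ℂ) := by
  obtain ⟨N, ρ, hρ⟩ := irr_isCharacter χ.2
  have htt : ρ v * ρ v = 1 := by rw [← map_mul, hv, map_one]
  have hidem : ((2 : ℂ)⁻¹ • (1 + ρ v)) * ((2 : ℂ)⁻¹ • (1 + ρ v)) = (2 : ℂ)⁻¹ • (1 + ρ v) := by
    have hsq : (1 + ρ v) * (1 + ρ v) = (2 : ℂ) • (1 + ρ v) := by
      rw [add_mul, one_mul, mul_add, mul_one, htt, two_smul]
      abel
    rw [smul_mul_smul_comm, hsq, smul_smul]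
    norm_num
  obtain ⟨n, hn⟩ := proj_nat _ hidem
  refine ⟨2 * (n : ℤ) - (deg (χ : G → ℂ) : ℤ), ?_⟩
  rw [map_smul, map_add, smul_eq_mul, show (1 : Module.End ℂ (Fin N → ℂ)) = ρ 1 from (map_one ρ).symm,
    show LinearMap.trace ℂ (Fin N → ℂ) (ρ 1) = (χ : G → ℂ) 1 from congrFun hρ 1,
    show LinearMap.trace ℂ (Fin N → ℂ) (ρ v) = (χ : G → ℂ) v from congrFun hρ v,
    char_one_eq_deg (irr_isCharacter χ.2)] at hn
  push_cast
  linear_combination 2 * hn

/-- The class times the centralizer. -/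
theorem card_class_mul (v : G) :
    Nat.card {x : G // IsConj v x} * Nat.card (Subgroup.centralizer ({v} : Set G)) = Nat.card G := by
  have e : Nat.card {x : G // IsConj v x} = Nat.card (ConjClasses.mk v).carrier :=
    Nat.card_congr (Equiv.subtypeEquivRight fun x => by
      rw [ConjClasses.mem_carrier_iff_mk_eq, ConjClasses.mk_eq_mk_iff_isConj]
      exact ⟨IsConj.symm, IsConj.symm⟩)
  rw [e, Subgroup.nat_card_centralizer_nat_card_stabilizer, ← ConjAct.orbit_eq_carrier_conjClasses,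
    ← Nat.card_prod, Nat.card_congr (MulAction.orbitProdStabilizerEquivGroup (ConjAct G) v)]
  exact Nat.card_congr ConjAct.toConjAct.symm.toEquiv

/-- The norm of a column is the order of the centralizer. -/
theorem column_norm (v : G) :
    ∑ χ : IrrCharacter G, (χ : G → ℂ) v * conj ((χ : G → ℂ) v) =
      (Nat.card (Subgroup.centralizer ({v} : Set G)) : ℂ) := by
  classical
  rw [second_orth, if_pos (IsConj.refl v), ← card_class_mul v, Nat.cast_mul, mul_comm,
    mul_div_assoc, div_self, mul_one]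
  haveI : Nonempty {x : G // IsConj v x} := ⟨⟨v, IsConj.refl v⟩⟩
  exact Nat.cast_ne_zero.2 Nat.card_pos.ne'

/-- The nontrivial character of a group of order two. -/
theorem drop_two (hG : Nat.card G = 2) (χ : IrrCharacter G) (hχ : (χ : G → ℂ) ≠ fun _ => 1) {v : G}
    (hv : v ≠ 1) : (χ : G → ℂ) 1 - (χ : G → ℂ) v = 2 := by
  classical
  haveI : Fact (Nat.Prime 2) := ⟨Nat.prime_two⟩
  haveI := isCyclic_of_prime_card hG
  have h1 : (χ : G → ℂ) 1 = 1 :=
    forall_linear_iff_comm.1 (fun a b => (IsCyclic.commGroup (α := G)).mul_comm a b) χ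
  obtain ⟨l, hl⟩ := exists_hom_of_degree_one (irr_isCharacter χ.2) h1
  have hval : ∀ g : G, (χ : G → ℂ) g = (l g : ℂ) := fun g => congrFun hl g
  have hsq : (l v : ℂ) * (l v : ℂ) = 1 := by
    rw [← Units.val_mul, ← map_mul, ← sq, ← hG, pow_card_eq_one', map_one, Units.val_one]
  rcases mul_self_eq_one_iff.1 hsq with h | h
  · refine absurd (funext fun g => ?_) hχ
    obtain ⟨i, rfl⟩ := Subgroup.mem_zpowers_iff.1 (mem_zpowers_of_prime_card hG hv (g' := g))
    rw [hval, map_zpow, show l v = 1 from Units.ext h, one_zpow, Units.val_one]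
  · rw [h1, hval, h]
    norm_num

end General

section SL

open scoped MatrixGroups Pointwise commutatorElement

variable {F : Type} [Field F] [Fintype F]

/-- The drop in the special linear group over a field of even order. -/
theorem sl_drop [CharP F 2] {n : ℕ} (hn : 2 ≤ n) (hF : Fintype.card F = 2 ^ n)
    (χ : IrrCharacter SL(2, F)) (hχ : (χ : SL(2, F) → ℂ) ≠ fun _ => 1) {v : SL(2, F)}
    (hv2 : v * v = 1) (hv1 : v ≠ 1) :
    (χ : SL(2, F) → ℂ) 1 - (χ : SL(2, F) → ℂ) v = ((2 ^ n : ℕ) : ℂ) := by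
  classical
  haveI : Fact (Nat.Prime 2) := ⟨Nat.prime_two⟩
  haveI := Fintype.ofFinite SL(2, F)
  obtain ⟨D⟩ := Solv.CITGroups.exists_data_sl (F := F) hn hF
  have hq4 := D.four_le
  obtain ⟨φ, ζ, -, hφS, hφinj, hφsurj, hφ0, -, hφconj, hζ⟩ := D.exists_coord hF
  -- involutions form one class
  have hclass : ∀ a ∈ D.S, a ≠ 1 → ∀ b ∈ D.S, b ≠ 1 → IsConj a b := by
    have key : ∀ a ∈ D.S, a ≠ 1 → IsConj (φ 1) a := by
      intro a ha ha1
      obtain ⟨x, rfl⟩ := hφsurj a ha
      obtain ⟨k, rfl⟩ := hζ x fun e => ha1 (e ▸ hφ0)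
      have h := hφconj k 1
      rw [mul_one] at h
      exact isConj_iff.2 ⟨D.y ^ k, h.symm⟩
    exact fun a ha ha1 b hb hb1 => (key a ha ha1).symm.trans (key b hb hb1)
  have hidx : ¬ 2 ∣ D.S.index := by
    have h := Subgroup.card_mul_index D.S
    rw [D.cardS, D.cardG] at h
    have e : D.S.index = (2 ^ n + 1) * (2 ^ n - 1) := Nat.eq_of_mul_eq_mul_left (show 0 < 2 ^ n by omega)
      (h.trans (by ring))
    have hev : 2 ∣ 2 ^ n := dvd_pow_self 2 (by omega)
    rw [e, Nat.prime_two.dvd_mul]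
    omega
  let T : Sylow 2 SL(2, F) := (IsPGroup.of_card (p := 2) D.cardS).toSylow hidx
  obtain ⟨P, hP⟩ := (isPGroup_of_ppower Nat.prime_two
    (x := v) ⟨1, by rw [pow_one]; exact orderOf_eq_prime (by rw [sq]; exact hv2) hv1⟩).exists_le_sylow
  obtain ⟨g, hg⟩ := MulAction.exists_smul_eq SL(2, F) P T
  obtain ⟨w, hw⟩ : ∃ w, w = g * v * g⁻¹ := ⟨_, rfl⟩
  have hwS : w ∈ D.S := by
    have h1 : MulAut.conj g • v ∈ MulAut.conj g • (P : Subgroup SL(2, F)) :=
      Subgroup.smul_mem_pointwise_smul v _ _ (hP (Subgroup.mem_zpowers v))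
    rw [← Sylow.coe_subgroup_smul, hg] at h1
    rw [hw]
    exact h1
  have hw1 : w ≠ 1 := by rw [hw]; exact conj_eq_one_iff.not.2 hv1
  rw [show (χ : SL(2, F) → ℂ) v = (χ : SL(2, F) → ℂ) w by
    rw [hw, isClassFunction_character (irr_isCharacter χ.2)]]
  -- the value is an integer of small absolute value
  obtain ⟨e, he⟩ := value_invol_int χ (D.sq w hwS)
  have hcentle : Subgroup.centralizer ({w} : Set SL(2, F)) = D.S := by
    refine le_antisymm (fun g hg => D.cent w hwS hw1 g (Subgroup.mem_centralizer_singleton_iff.1 hg)) ?_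
    exact fun g hg => Subgroup.mem_centralizer_singleton_iff.2 (D.comm hg hwS)
  have hbound : e * e + 1 ≤ ((2 ^ n : ℕ) : ℤ) := by
    have h := congrArg Complex.re (column_norm w)
    rw [hcentle, D.cardS, Complex.re_sum, Complex.natCast_re] at h
    have hle : ∑ ψ ∈ ({oneI SL(2, F), χ} : Finset _), ((ψ : SL(2, F) → ℂ) w * conj ((ψ : SL(2, F) → ℂ) w)).re ≤
        ((2 ^ n : ℕ) : ℝ) := by
      rw [← h]
      refine Finset.sum_le_sum_of_subset_of_nonneg (Finset.subset_univ _) fun ψ _ _ => ?_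
      rw [Complex.mul_conj, Complex.ofReal_re]
      exact Complex.normSq_nonneg _
    rw [Finset.sum_pair (fun h => hχ (congrArg Subtype.val h).symm), oneI_apply, he] at hle
    simp only [map_intCast, map_one, one_mul, Complex.one_re] at hle
    rw [← Int.cast_mul, Complex.intCast_re] at hle
    have : ((e * e + 1 : ℤ) : ℝ) ≤ (((2 ^ n : ℕ) : ℤ) : ℝ) := by push_cast at hle ⊢; linarith
    exact_mod_cast this
  -- the degree is congruent to the value
  obtain ⟨N, ρ, hρ⟩ := irr_isCharacter χ.2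
  obtain ⟨m, hm⟩ := proj_nat (avgE ρ D.S) (avgE_sq ρ _)
  rw [trace_avgE, hρ, ← Finset.add_sum_erase _ _ (Finset.mem_univ (1 : D.S)), OneMemClass.coe_one,
    Finset.sum_congr rfl fun (a : D.S) ha => show (χ : SL(2, F) → ℂ) (a : SL(2, F)) = (e : ℂ) by
      obtain ⟨c, hc⟩ := isConj_iff.1 (hclass w hwS hw1 a a.2 fun h =>
        (Finset.mem_erase.1 ha).1 (Subtype.ext h))
      rw [← hc, isClassFunction_character (irr_isCharacter χ.2), he],
    Finset.sum_const, Finset.card_erase_of_mem (Finset.mem_univ _), Finset.card_univ, nsmul_eq_mul,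
    ← Nat.card_eq_fintype_card, D.cardS, char_one_eq_deg (irr_isCharacter χ.2),
    inv_mul_eq_iff_eq_mul₀ (Nat.cast_ne_zero.2 (show 2 ^ n ≠ 0 by omega)),
    Nat.cast_sub (show 1 ≤ 2 ^ n by omega), Nat.cast_one] at hm
  have hdvd : ((2 ^ n : ℕ) : ℤ) ∣ (deg (χ : SL(2, F) → ℂ) : ℤ) - e := by
    refine ⟨(m : ℤ) - e, ?_⟩
    have : (((deg (χ : SL(2, F) → ℂ) : ℤ) - e : ℤ) : ℂ) =
        ((((2 ^ n : ℕ) : ℤ) * ((m : ℤ) - e) : ℤ) : ℂ) := by
      simp only [Int.cast_sub, Int.cast_mul, Int.cast_natCast]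
      linear_combination hm
    exact_mod_cast this
  -- there are no nontrivial linear characters
  haveI : IsSimpleGroup SL(2, F) := by
    have hc := Solv.BReyn.center_eq_bot_two_pow (m := n) (by omega) F hF
    let e : SL(2, F) ≃* Matrix.ProjectiveSpecialLinearGroup (Fin 2) F :=
      MulEquiv.ofBijective (QuotientGroup.mk' _)
        ⟨by rw [← MonoidHom.ker_eq_bot_iff, QuotientGroup.ker_mk', hc], QuotientGroup.mk'_surjective _⟩
    haveI := Matrix.ProjectiveSpecialLinearGroup.rank_two_simple (F := F) (by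
      rw [Nat.card_eq_fintype_card, hF]; exact hq4)
    exact e.isSimpleGroup
  have hd1 : deg (χ : SL(2, F) → ℂ) ≠ 1 := by
    intro hd
    have hcomm : commutator SL(2, F) = ⊤ := by
      refine (Subgroup.Normal.eq_bot_or_eq_top (inferInstance : (commutator SL(2, F)).Normal)).resolve_left fun h => ?_
      rw [commutator_def] at h
      have hG := Nat.card_le_card_of_injective (fun g : SL(2, F) => (⟨g, D.cent w hwS hw1 g (by
        have : ⁅g, w⁆ ∈ ⁅(⊤ : Subgroup SL(2, F)), ⊤⁆ := Subgroup.commutator_mem_commutator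
          (Subgroup.mem_top _) (Subgroup.mem_top _)
        rwa [h, Subgroup.mem_bot, commutatorElement_eq_one_iff_mul_comm] at this)⟩ : D.S))
        fun a b hab => congrArg Subtype.val hab
      rw [D.cardG, D.cardS] at hG
      have : (2 ^ n + 1) * (2 ^ n * 1) ≤ (2 ^ n + 1) * (2 ^ n * (2 ^ n - 1)) :=
        Nat.mul_le_mul_left _ (Nat.mul_le_mul_left _ (by omega))
      nlinarith
    have hcard := card_linear (G := SL(2, F))
    rw [hcomm, Subgroup.index_top, Nat.card_eq_one_iff_unique] at hcard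
    haveI := hcard.1
    refine hχ (congrArg (fun x : {χ : IrrCharacter SL(2, F) // (χ : SL(2, F) → ℂ) 1 = 1} =>
      (x.1 : SL(2, F) → ℂ)) (Subsingleton.elim ⟨χ, ?_⟩ ⟨oneI _, rfl⟩))
    rw [char_one_eq_deg (irr_isCharacter χ.2), hd, Nat.cast_one]
  have hkey : (deg (χ : SL(2, F) → ℂ) : ℤ) - e = ((2 ^ n : ℕ) : ℤ) := by
    have hdeg := PSL2Deg.sl_degree χ
    rw [charDegree_eq_deg, hF] at hdeg
    have hev : ¬ Odd (2 ^ n) := Nat.not_odd_iff_even.2 (Nat.even_pow.2 ⟨even_two, by omega⟩)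
    obtain ⟨q, hqd⟩ : ∃ q, q = 2 ^ n := ⟨_, rfl⟩
    rw [← hqd] at hdeg hev hdvd hbound hq4 ⊢
    obtain ⟨d, hdd⟩ : ∃ d, d = deg (χ : SL(2, F) → ℂ) := ⟨_, rfl⟩
    rw [← hdd] at hdeg hdvd hd1 ⊢
    obtain ⟨j, hj⟩ := hdvd
    have hed : e * e + 1 ≤ (q : ℤ) := hbound
    have he1 : e < (q : ℤ) - 1 := by nlinarith
    have he2 : -((q : ℤ) - 1) < e := by nlinarith
    have hq : (4 : ℤ) ≤ q := by exact_mod_cast hq4
    have hdq : (d : ℤ) = q ∨ (d : ℤ) = q + 1 ∨ (d : ℤ) = q - 1 := by
      rcases hdeg with h | h | h | h | ⟨ho, -⟩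
      · exact absurd h hd1
      · exact Or.inl (by rw [h])
      · exact Or.inr (Or.inl (by rw [h]; push_cast; ring))
      · exact Or.inr (Or.inr (by omega))
      · exact absurd ho hev
    have hj1 : j = 1 := by
      by_contra hne
      rcases lt_or_gt_of_ne hne with hlt | hlt
      · have : (q : ℤ) * j ≤ 0 := mul_nonpos_of_nonneg_of_nonpos (by omega) (by omega)
        omega
      · have : (q : ℤ) * 2 ≤ (q : ℤ) * j := mul_le_mul_of_nonneg_left (by omega) (by omega)
        omega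
    rw [hj, hj1, mul_one]
  rw [he, char_one_eq_deg (irr_isCharacter χ.2)]
  have h2 := congrArg (fun z : ℤ => (z : ℂ)) hkey
  simpa using h2

end SL

variable {G : Type u} [Group G] [Fintype G]

/-- The converse direction in groups isomorphic to a linear group. -/
theorem drop_psl {F : Type} [Field F] [Fintype F] {n : ℕ} (hn : 2 ≤ n) (hF : Fintype.card F = 2 ^ n)
    (e : G ≃* Matrix.ProjectiveSpecialLinearGroup (Fin 2) F) (χ : IrrCharacter G)
    (hχ : (χ : G → ℂ) ≠ fun _ => 1) {v : G} (hv2 : v * v = 1) (hv1 : v ≠ 1) :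
    (χ : G → ℂ) 1 - (χ : G → ℂ) v = ((2 ^ n : ℕ) : ℂ) := by
  classical
  haveI : CharP F 2 := by
    refine CharTwo.of_one_ne_zero_of_two_eq_zero one_ne_zero ?_
    have h := FiniteField.cast_card_eq_zero F
    rw [hF, Nat.cast_pow, Nat.cast_ofNat] at h
    exact pow_eq_zero_iff (by omega) |>.1 h
  haveI := Fintype.ofFinite (Matrix.SpecialLinearGroup (Fin 2) F)
  have hc := Solv.BReyn.center_eq_bot_two_pow (m := n) (by omega) F hF
  let i : Matrix.SpecialLinearGroup (Fin 2) F ≃* G :=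
    (MulEquiv.ofBijective (QuotientGroup.mk' _)
      ⟨by rw [← MonoidHom.ker_eq_bot_iff, QuotientGroup.ker_mk', hc],
        QuotientGroup.mk'_surjective _⟩).trans e.symm
  obtain ⟨w, rfl⟩ := i.surjective v
  have h := sl_drop hn hF ⟨_, isIrrCharacter_comp_equiv i χ.2⟩ (fun h => hχ (funext fun g => by
    obtain ⟨x, rfl⟩ := i.surjective g
    exact congrFun h x)) (v := w) (i.injective (by rw [map_mul, hv2, map_one]))
    (fun h => hv1 (by rw [h, map_one]))
  simpa using h

end Cfsg.Agent.Char.ConstDrop
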