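import Cfsg.Agent.Lib.Char.ConstantDrop.Nilp
import Cfsg.Agent.S1230

/-!
# A constant drop forces a two-dimensional linear group
-/

set_option autoImplicit false
set_option linter.unusedSectionVars false
set_option linter.style.haveILetI false

namespace Cfsg.Agent.Char.ConstDrop

open Cfsg Module
open scoped ComplexConjugate

universe u

variable {G : Type u} [Group G] [Fintype G] {M : Ideal AlgInt}

namespace Ctx

variable (c : Ctx M G)

theorem normalizer_le_centralizer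
    (hPC : (c.P : Subgroup G) ≤ Subgroup.centralizer ({c.s} : Set G)) :
    Subgroup.normalizer ((c.P.subtype hPC : Subgroup (Subgroup.centralizer ({c.s} : Set G))) :
        Set (Subgroup.centralizer ({c.s} : Set G))) ≤
      Subgroup.centralizer ((c.P.subtype hPC : Subgroup (Subgroup.centralizer ({c.s} : Set G))) :
        Set (Subgroup.centralizer ({c.s} : Set G))) := by
  intro x hx
  have hxn : (x : G) ∈ Subgroup.normalizer ((c.P : Subgroup G) : Set G) := by
    refine Subgroup.mem_normalizer_iff.2 fun a => ⟨fun ha => ?_, fun ha => ?_⟩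
    · exact Subgroup.mem_subgroupOf.1
        ((Subgroup.mem_normalizer_iff.1 hx ⟨a, hPC ha⟩).1 (Subgroup.mem_subgroupOf.2 ha))
    · have haC : a ∈ Subgroup.centralizer ({c.s} : Set G) := by
        have := mul_mem (mul_mem (inv_mem x.2) (hPC ha)) x.2
        simpa [mul_assoc] using this
      exact Subgroup.mem_subgroupOf.1
        ((Subgroup.mem_normalizer_iff.1 hx ⟨a, haC⟩).2 (Subgroup.mem_subgroupOf.2 ha))
  have hxP := c.normalizer_cent hxn (Subgroup.mem_centralizer_singleton_iff.1 x.2)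
  exact Subgroup.mem_centralizer_iff.2 fun t ht =>
    Subtype.ext (c.comm (Subgroup.mem_subgroupOf.1 ht) hxP)

/-- The block is constant on sections of involutions. -/
theorem value_section {χ : IrrCharacter G} (hχ : χ ∈ SB M G) {b y : G}
    (hb : b ∈ (c.P : Subgroup G)) (hb1 : b ≠ 1) (hy : ¬ 2 ∣ orderOf y) (hc : Commute b y) :
    (χ : G → ℂ) (b * y) = (χ : G → ℂ) c.s := by
  classical
  haveI : Fact (Nat.Prime 2) := ⟨Nat.prime_two⟩
  set C := Subgroup.centralizer ({c.s} : Set G) with hC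
  have hPC : (c.P : Subgroup G) ≤ C := fun a ha =>
    Subgroup.mem_centralizer_singleton_iff.2 (c.comm ha c.s_mem)
  set T : Sylow 2 C := c.P.subtype hPC
  have hT := c.normalizer_le_centralizer hPC
  obtain ⟨K, hKn, hKodd, ⟨j, hj⟩, -, hreg⟩ := exists_complement_of_central T hT
  haveI := hKn
  haveI : Fintype C := Fintype.ofFinite _
  obtain ⟨g, hg⟩ := isConj_iff.1 (c.hone b (c.hexp b hb) hb1)
  have hgC : g * y * g⁻¹ ∈ C := by
    refine Subgroup.mem_centralizer_singleton_iff.2 ?_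
    rw [s, ← hg, show g * y * g⁻¹ * (g * b * g⁻¹) = g * (y * b) * g⁻¹ by group, ← hc.eq]
    group
  have hv : (⟨g * y * g⁻¹, hgC⟩ : C) ∈ K := hreg _ (by
    rw [Subgroup.orderOf_mk, ← MulAut.conj_apply, MulEquiv.orderOf_eq]; exact hy)
  have h := OneClass.principal_section_const (x := c.s) K c.hM ⟨1, by rw [c.hs2, pow_one]⟩ hKodd hj
    (mem_SB.1 hχ).1 hv
  rw [← h, ← isClassFunction_character (irr_isCharacter χ.2) (b * y) g]
  refine congrArg (χ : G → ℂ) ?_
  show g * (b * y) * g⁻¹ = c.s * (g * y * g⁻¹)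
  rw [s, ← hg]
  group

/-- An element inverted or fixed by the Sylow subgroup is trivial. -/
theorem eigen_trivial {z : G} (hz : ¬ 2 ∣ orderOf z) (hzs : Commute c.s z)
    (heig : ∀ a ∈ (c.P : Subgroup G), a * z * a⁻¹ = z ∨ a * z * a⁻¹ = z⁻¹) : z = 1 := by
  classical
  haveI : Fact (Nat.Prime 2) := ⟨Nat.prime_two⟩
  obtain ⟨Q, hQ⟩ : ∃ Q : Subgroup G, Q = (c.P : Subgroup G) ⊓ Subgroup.centralizer ({z} : Set G) :=
    ⟨_, rfl⟩
  have hQP : Q ≤ (c.P : Subgroup G) := hQ.le.trans inf_le_left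
  have hmemQ : ∀ {a : G}, a ∈ (c.P : Subgroup G) → (a ∈ Q ↔ a * z * a⁻¹ = z) := fun {a} ha => by
    rw [hQ, Subgroup.mem_inf, Subgroup.mem_centralizer_singleton_iff]
    exact ⟨fun e => by rw [e.2, mul_inv_cancel_right], fun e => ⟨ha, mul_inv_eq_iff_eq_mul.1 e⟩⟩
  by_cases hall : (c.P : Subgroup G) ≤ Q
  · have hzC : z ∈ Subgroup.centralizer ((c.P : Subgroup G) : Set G) :=
      Subgroup.mem_centralizer_iff.2 fun a ha =>
        mul_inv_eq_iff_eq_mul.1 ((hmemQ ha).1 (hall ha))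
    rw [c.cent_eq] at hzC
    by_contra h1
    exact hz (by rw [c.orderOf_P hzC h1])
  obtain ⟨a0, ha0, ha0Q⟩ := SetLike.not_le_iff_exists.1 hall
  have hinv0 : a0 * z * a0⁻¹ = z⁻¹ := (heig a0 ha0).resolve_left fun e => ha0Q ((hmemQ ha0).2 e)
  have hprod : ∀ a ∈ (c.P : Subgroup G), a ∉ Q → a * a0 ∈ Q := fun a ha haQ => by
    refine (hmemQ (mul_mem ha ha0)).2 ?_
    have h1 : a * z * a⁻¹ = z⁻¹ := (heig a ha).resolve_left fun e => haQ ((hmemQ ha).2 e)
    rw [show a * a0 * z * (a * a0)⁻¹ = a * (a0 * z * a0⁻¹) * a⁻¹ by group, hinv0,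
      show a * z⁻¹ * a⁻¹ = (a * z * a⁻¹)⁻¹ by group, h1, inv_inv]
  have hcard : 2 * Nat.card Q = c.q := by
    have hidx : (Q.subgroupOf (c.P : Subgroup G)).index = 2 := by
      refine Subgroup.index_eq_two_iff.2 ⟨⟨a0, ha0⟩, fun b => ?_⟩
      simp only [Subgroup.mem_subgroupOf, Subgroup.coe_mul]
      by_cases hb : (b : G) ∈ Q
      · refine Or.inr ⟨hb, fun h => ha0Q ?_⟩
        have := mul_mem (inv_mem hb) h
        simpa using this
      · exact Or.inl ⟨hprod b b.2 hb, hb⟩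
    rw [q, ← Subgroup.card_mul_index (Q.subgroupOf (c.P : Subgroup G)), hidx,
      Nat.card_congr (Subgroup.subgroupOfEquivOfLe hQP).toEquiv, mul_comm]
  have hsQ : c.s ∈ Q := (hmemQ c.s_mem).2 (by rw [hzs.eq, mul_inv_cancel_right])
  have hQ0 : (Nat.card Q : ℂ) ≠ 0 := Nat.cast_ne_zero.2 Nat.card_pos.ne'
  have hqQ : (c.q : ℂ) = 2 * (Nat.card Q : ℂ) := by rw [← hcard]; push_cast; ring
  have hterm : ∀ χ ∈ SB M G, ∃ (n : ℕ) (μ : Fin n → ℂ), (∀ i, μ i ^ orderOf z = 1) ∧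
      (χ : G → ℂ) c.s + 2 = (n : ℂ) ∧
      (χ : G → ℂ) 1 - (χ : G → ℂ) z = (Nat.card Q : ℂ) * ((n : ℂ) - ∑ i, μ i) ∧
      (n = 1 → ∀ i, μ i = 1) := by
    intro χ hχ
    obtain ⟨N, ρ, hρ⟩ := irr_isCharacter χ.2
    set H := Subgroup.centralizer (Q : Set G)
    have hzH : z ∈ H := Subgroup.mem_centralizer_iff.2 fun a ha =>
      mul_inv_eq_iff_eq_mul.1 ((hmemQ (hQP ha)).1 ha)
    have ha0H : a0 ∈ H := Subgroup.mem_centralizer_iff.2 fun a ha => c.comm (hQP ha) ha0
    have hcomm : ∀ x ∈ H, ρ x * avgE ρ Q = avgE ρ Q * ρ x := fun x hx =>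
      avgE_comm ρ Q (Subgroup.centralizer_le_normalizer _ hx)
    obtain ⟨n, μ, hμ, hn, htr, -⟩ := exists_proj_eigen ρ (avgE ρ Q) (avgE_sq ρ Q) H hcomm hzH
    rw [trace_avgE, hρ, c.sum_fixed hχ Q hQP, hqQ, mul_div_assoc, div_self hQ0, mul_one] at hn
    refine ⟨n, μ, hμ, hn, ?_, fun hn1 => ?_⟩
    · have h1 := htr 1
      rw [pow_one, trace_mul_avgE, hρ, ← Finset.add_sum_erase _ _ (Finset.mem_univ (1 : Q)),
        OneMemClass.coe_one, mul_one,
        Finset.sum_congr rfl fun (a : Q) ha => by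
          rw [char_mul_comm (irr_isCharacter χ.2), c.value_section hχ (hQP a.2)
            (fun e => (Finset.mem_erase.1 ha).1 (Subtype.ext e)) hz
            (mul_inv_eq_iff_eq_mul.1 ((hmemQ (hQP a.2)).1 a.2))],
        Finset.sum_const, Finset.card_erase_of_mem (Finset.mem_univ _), Finset.card_univ, nsmul_eq_mul,
        ← Nat.card_eq_fintype_card, Nat.cast_sub Nat.card_pos, Nat.cast_one,
        inv_mul_eq_iff_eq_mul₀ hQ0] at h1
      simp only [pow_one] at h1
      rw [c.degree_eq hχ, hqQ, ← hn]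
      linear_combination -h1
    · subst hn1
      have hsame : ∀ x : G, LinearMap.trace ℂ _ (ρ (a0 * x * a0⁻¹) * avgE ρ Q) =
          LinearMap.trace ℂ _ (ρ x * avgE ρ Q) := by
        intro x
        rw [show ρ (a0 * x * a0⁻¹) = ρ a0 * ρ x * ρ a0⁻¹ by rw [← map_mul, ← map_mul],
          mul_assoc, hcomm _ (inv_mem ha0H), ← mul_assoc,
          LinearMap.trace_mul_comm, ← mul_assoc, ← mul_assoc, ← map_mul ρ, inv_mul_cancel, map_one,
          one_mul]
      obtain ⟨o, ho⟩ : ∃ o, orderOf z = o + 1 := ⟨orderOf z - 1, by have := orderOf_pos z; omega⟩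
      have hzinv : z⁻¹ = z ^ o := inv_eq_of_mul_eq_one_right (by
        rw [← pow_succ', ← ho, pow_orderOf_eq_one])
      have h1 := htr 1
      have ho' := htr o
      rw [← hzinv, ← hinv0, hsame, ← pow_one z] at ho'
      rw [h1, Fin.sum_univ_one, Fin.sum_univ_one, pow_one] at ho'
      intro i
      fin_cases i
      have hpow := hμ 0
      rw [ho, pow_succ, ← ho'] at hpow
      obtain ⟨j, hj⟩ : ∃ j, orderOf z = 2 * j + 1 := ⟨orderOf z / 2, by omega⟩
      have h3 := hμ 0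
      rw [hj, pow_succ, pow_mul, show μ 0 ^ 2 = 1 by rw [sq]; exact hpow, one_pow, one_mul] at h3
      exact h3
  choose! n μ hμ hn hdiff hone using hterm
  have hzero : ∑ χ ∈ SB M G, (χ : G → ℂ) c.s * ((χ : G → ℂ) 1 - (χ : G → ℂ) z) = 0 := by
    simp only [mul_sub, Finset.sum_sub_distrib, c.sum_value_regular hz,
      c.sum_value_regular (x := (1 : G)) (by simp), sub_self]
  have hpos : ∀ χ ∈ SB M G, 0 ≤ ((χ : G → ℂ) c.s * ((χ : G → ℂ) 1 - (χ : G → ℂ) z)).re ∧
      (((χ : G → ℂ) c.s * ((χ : G → ℂ) 1 - (χ : G → ℂ) z)).re = 0 →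
        (χ : G → ℂ) z = (χ : G → ℂ) 1) := by
    intro χ hχ
    obtain ⟨e, he⟩ := c.value_int hχ
    have hne : n χ = e + 1 := by
      have h1 := hn χ hχ
      rw [he] at h1
      have : ((n χ : ℕ) : ℂ) = ((e + 1 : ℕ) : ℂ) := by push_cast; linear_combination -h1
      exact_mod_cast this
    have hμle : (∑ i, μ χ i).re ≤ n χ := by
      rw [Complex.re_sum]
      calc ∑ i, (μ χ i).re ≤ ∑ _i : Fin (n χ), (1 : ℝ) := Finset.sum_le_sum fun i _ =>
            (Complex.re_le_norm _).trans (root_of_unity_norm (orderOf_pos z).ne' (hμ χ hχ i)).le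
        _ = _ := by simp
    have hre : ((χ : G → ℂ) c.s * ((χ : G → ℂ) 1 - (χ : G → ℂ) z)).re =
        ((e : ℝ) - 1) * ((Nat.card Q : ℝ) * ((n χ : ℝ) - (∑ i, μ χ i).re)) := by
      rw [hdiff χ hχ, he]
      simp [Complex.mul_re, Complex.mul_im]
    have hfull : (∀ i, μ χ i = 1) → (χ : G → ℂ) z = (χ : G → ℂ) 1 := fun h => by
      have h1 := hdiff χ hχ
      simp only [h, Finset.sum_const, Finset.card_univ, Fintype.card_fin, nsmul_eq_mul, mul_one,
        sub_self, mul_zero] at h1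
      exact (sub_eq_zero.1 h1).symm
    rcases Nat.eq_zero_or_pos e with h0 | h0
    · have h1 := hfull (hone χ hχ (by omega))
      rw [h1, sub_self, mul_zero]
      exact ⟨le_rfl, fun _ => rfl⟩
    · have he1 : e ≠ 1 := fun h1 => c.value_ne_zero hχ (by rw [he, h1, Nat.cast_one, sub_self])
      have hepos : (0 : ℝ) < (e : ℝ) - 1 := by
        have h2 : 2 ≤ e := by omega
        have : (2 : ℝ) ≤ (e : ℝ) := by exact_mod_cast h2
        linarith
      have hQpos : (0 : ℝ) < (Nat.card Q : ℝ) := Nat.cast_pos.2 Nat.card_pos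
      rw [hre]
      refine ⟨mul_nonneg hepos.le (mul_nonneg hQpos.le (sub_nonneg.2 hμle)), fun h => hfull ?_⟩
      refine all_one_of_re (orderOf_pos z).ne' (μ χ) (hμ χ hχ) ?_
      rw [mul_eq_zero, mul_eq_zero, sub_eq_zero (a := (n χ : ℝ))] at h
      rw [Fintype.card_fin, ((h.resolve_left hepos.ne').resolve_left hQpos.ne')]
  refine eq_one_of_ker c.hM c.hO fun χ hχ => ?_
  by_cases h1 : (χ : G → ℂ) = fun _ => 1
  · rw [h1]
  · have hS : χ ∈ SB M G := mem_SB.2 ⟨mem_PB.1 hχ, h1⟩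
    have h0 := congrArg Complex.re hzero
    rw [Complex.re_sum, Complex.zero_re] at h0
    exact (hpos χ hS).2 ((Finset.sum_eq_zero_iff_of_nonneg fun η hη => (hpos η hη).1).1 h0 χ hS)

/-- The centralizer of the involution is the Sylow subgroup. -/
theorem cent_s : Subgroup.centralizer ({c.s} : Set G) = (c.P : Subgroup G) := by
  classical
  haveI : Fact (Nat.Prime 2) := ⟨Nat.prime_two⟩
  set P := (c.P : Subgroup G) with hPdef
  set C := Subgroup.centralizer ({c.s} : Set G) with hC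
  have hPC : P ≤ C := fun a ha => Subgroup.mem_centralizer_singleton_iff.2 (c.comm ha c.s_mem)
  set T : Sylow 2 C := c.P.subtype hPC
  have hT := c.normalizer_le_centralizer hPC
  obtain ⟨K, hKn, hKodd, -, hidx, -⟩ := exists_complement_of_central T hT
  have hK : K = ⊥ := by
    by_contra hne
    obtain ⟨Y, hY⟩ : ∃ Y : Subgroup G, Y = K.map C.subtype := ⟨_, rfl⟩
    have hYinv : ∀ a ∈ P, ∀ y ∈ Y, a * y * a⁻¹ ∈ Y := by
      intro a ha y hy
      rw [hY] at hy ⊢
      obtain ⟨k, hk, rfl⟩ := hy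
      exact ⟨⟨a, hPC ha⟩ * k * ⟨a, hPC ha⟩⁻¹, hKn.conj_mem k hk _, rfl⟩
    have hYne : Y ≠ ⊥ := fun e => hne (by
      rw [eq_bot_iff]
      intro k hk
      have h1 : (k : G) ∈ Y := hY ▸ ⟨k, hk, rfl⟩
      rw [e, Subgroup.mem_bot] at h1
      exact Subgroup.mem_bot.2 (Subtype.ext h1))
    have hex : ∃ m : ℕ, ∃ W : Subgroup G, W ≤ Y ∧ W ≠ ⊥ ∧ (∀ a ∈ P, ∀ y ∈ W, a * y * a⁻¹ ∈ W) ∧
        Nat.card W = m := ⟨_, Y, le_rfl, hYne, hYinv, rfl⟩
    obtain ⟨W, hWY, hWne, hWinv, hWcard⟩ := Nat.find_spec hex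
    have hYord : ∀ y ∈ Y, ¬ 2 ∣ orderOf y ∧ Commute c.s y := by
      intro y hy
      rw [hY] at hy
      obtain ⟨k, hk, rfl⟩ := hy
      refine ⟨fun h => hKodd ?_, (Subgroup.mem_centralizer_singleton_iff.1 k.2).symm⟩
      rw [Subgroup.coe_subtype, Subgroup.orderOf_coe] at h
      exact h.trans (Subgroup.orderOf_mk k hk ▸ orderOf_dvd_natCard (⟨k, hk⟩ : K))
    have hcase : ∀ a ∈ P, (∀ w ∈ W, a * w * a⁻¹ = w) ∨ (∀ w ∈ W, a * w * a⁻¹ = w⁻¹) := by
      intro a ha
      obtain ⟨F, hF⟩ : ∃ F : Subgroup G, F = W ⊓ Subgroup.centralizer ({a} : Set G) := ⟨_, rfl⟩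
      have hFW : F ≤ W := hF.le.trans inf_le_left
      have hmemF : ∀ {w : G}, w ∈ W → (w ∈ F ↔ a * w * a⁻¹ = w) := fun {w} hw => by
        rw [hF, Subgroup.mem_inf, Subgroup.mem_centralizer_singleton_iff]
        exact ⟨fun e => by rw [← e.2, mul_inv_cancel_right],
          fun e => ⟨hw, (mul_inv_eq_iff_eq_mul.1 e).symm⟩⟩
      by_cases hF0 : F = ⊥
      · right
        have hmem : ∀ w ∈ W, w⁻¹ * (a * w * a⁻¹) ∈ W := fun w hw =>
          mul_mem (inv_mem hw) (hWinv a ha w hw)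
        let φ : W → W := fun w => ⟨(w : G)⁻¹ * (a * w * a⁻¹), hmem w w.2⟩
        have hinj : Function.Injective φ := by
          intro x y e
          have e1 : (x : G)⁻¹ * (a * x * a⁻¹) = (y : G)⁻¹ * (a * y * a⁻¹) := congrArg Subtype.val e
          have hxy : (y : G) * (x : G)⁻¹ ∈ W := mul_mem y.2 (inv_mem x.2)
          have h2 : (y : G) * (x : G)⁻¹ ∈ F := (hmemF hxy).2 (by
            calc a * ((y : G) * (x : G)⁻¹) * a⁻¹ = (a * y * a⁻¹) * (a * x * a⁻¹)⁻¹ := by group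
              _ = (y : G) * ((x : G)⁻¹ * (a * x * a⁻¹)) * (a * x * a⁻¹)⁻¹ := by rw [e1]; group
              _ = _ := by group)
          rw [hF0, Subgroup.mem_bot, mul_inv_eq_one] at h2
          exact Subtype.ext h2.symm
        intro w hw
        obtain ⟨x, hx⟩ := (Finite.injective_iff_surjective.1 hinj) ⟨w, hw⟩
        have hxw : (x : G)⁻¹ * (a * x * a⁻¹) = w := congrArg Subtype.val hx
        have ha2 : a * a = 1 := c.hexp a ha
        rw [← hxw, show a * ((x : G)⁻¹ * (a * x * a⁻¹)) * a⁻¹ =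
          (a * (x : G) * a⁻¹)⁻¹ * ((a * a) * x * (a * a)⁻¹) by group, ha2]
        group
      · left
        have hFinv : ∀ b ∈ P, ∀ y ∈ F, b * y * b⁻¹ ∈ F := by
          intro b hb y hy
          refine (hmemF (hWinv b hb y (hFW hy))).2 ?_
          rw [show a * (b * y * b⁻¹) * a⁻¹ = (a * b) * y * (a * b)⁻¹ by group, c.comm ha hb,
            show (b * a) * y * (b * a)⁻¹ = b * (a * y * a⁻¹) * b⁻¹ by group,
            (hmemF (hFW hy)).1 hy]
        have hmin := Nat.find_min' hex ⟨F, hFW.trans hWY, hF0, hFinv, rfl⟩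
        have hFeq : F = W := Subgroup.eq_of_le_of_card_ge hFW (hWcard.le.trans hmin)
        exact fun w hw => (hmemF hw).1 (hFeq ▸ hw)
    obtain ⟨z, hz, hz1⟩ := (Subgroup.bot_or_exists_ne_one W).resolve_left hWne
    exact hz1 (c.eigen_trivial (hYord z (hWY hz)).1 (hYord z (hWY hz)).2 fun a ha =>
      (hcase a ha).imp (fun h => h z hz) fun h => h z hz)
  rw [hK, Subgroup.index_bot] at hidx
  refine (Subgroup.eq_of_le_of_card_ge hPC ?_).symm
  rw [hidx]
  exact (Nat.card_congr (Subgroup.subgroupOfEquivOfLe hPC).toEquiv).le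

/-- The two-dimensional linear group. -/
theorem psl : c.u * c.u = 1 ∧ ∃ (F : Type) (_ : Field F) (_ : Fintype F) (n : ℕ), 2 ≤ n ∧
    Fintype.card F = 2 ^ n ∧ Nonempty (G ≃* Matrix.ProjectiveSpecialLinearGroup (Fin 2) F) := by
  classical
  haveI : Fact (Nat.Prime 2) := ⟨Nat.prime_two⟩
  have h2 : (2 : ℕ).Prime := Nat.prime_two
  constructor
  · obtain ⟨⟨y, hy, hcm, -, hr⟩, -, -⟩ := preg_spec h2 c.u
    have hy' : c.s * y = c.u := hy
    have hcm' : Commute c.s y := hcm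
    have hyP : y ∈ (c.P : Subgroup G) := by
      rw [← c.cent_s]; exact Subgroup.mem_centralizer_singleton_iff.2 hcm'.eq.symm
    have hy1 : y = 1 := by
      by_contra h
      exact hr (by rw [c.orderOf_P hyP h])
    rw [← hy', hy1, mul_one]
    exact c.hexp _ c.s_mem
  have hcyc : ¬ IsCyclic (c.P : Subgroup G) := fun hc => by
    obtain ⟨⟨g, hg⟩, hgen⟩ := hc.exists_ofOrder_eq_natCard
    have h : orderOf (⟨g, hg⟩ : (c.P : Subgroup G)) ≤ 2 :=
      orderOf_le_of_pow_eq_one two_pos (Subtype.ext (by rw [Subgroup.coe_pow, sq]; exact c.hexp g hg))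
    have := c.h4
    omega
  have hnn : ¬ (c.P : Subgroup G).Normal := fun hn => by
    have htop := c.eq_top_of_cent_le (c.P : Subgroup G) c.cent_eq.le
    have h4 := c.h4
    obtain ⟨a, ha, ha1, has⟩ : ∃ a ∈ (c.P : Subgroup G), a ≠ 1 ∧ a ≠ c.s := by
      by_contra hno
      push Not at hno
      have hle : Nat.card (c.P : Subgroup G) ≤ Nat.card ({1, c.s} : Set G) :=
        Nat.card_mono (Set.toFinite _) fun a ha => by
          rcases eq_or_ne a 1 with rfl | h
          · exact Or.inl rfl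
          · exact Or.inr (hno a ha h)
      have h3 : ({1, c.s} : Set G).ncard ≤ 2 := (Set.ncard_insert_le _ _).trans (by simp)
      rw [Nat.card_coe_set_eq] at hle
      omega
    obtain ⟨g, hg⟩ := isConj_iff.1 (c.hone a (c.hexp a ha) ha1)
    have hgP : g ∈ (c.P : Subgroup G) := htop ▸ Subgroup.mem_top g
    exact has (by rw [s, ← hg, c.comm hgP ha, mul_inv_cancel_right])
  obtain ⟨F, iF, iFF, hF, he⟩ := S1230.result c.P hcyc hnn fun t ht => by
    have ht2 : t * t = 1 := by rw [← sq, ← ht]; exact pow_orderOf_eq_one t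
    have ht1 : t ≠ 1 := fun e => by rw [e, orderOf_one] at ht; omega
    obtain ⟨g, hg⟩ := isConj_iff.1 (c.hone t ht2 ht1)
    have hmem : ∀ x ∈ Subgroup.centralizer ({t} : Set G), g * x * g⁻¹ ∈ (c.P : Subgroup G) := by
      intro x hx
      rw [← c.cent_s]
      refine Subgroup.mem_centralizer_singleton_iff.2 ?_
      rw [s, ← hg, show g * x * g⁻¹ * (g * t * g⁻¹) = g * (x * t) * g⁻¹ by group,
        Subgroup.mem_centralizer_singleton_iff.1 hx]
      group
    refine ⟨⟨⟨fun a b => Subtype.ext ?_⟩⟩, fun x hx => ?_⟩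
    · have h := c.comm (hmem a a.2) (hmem b b.2)
      show (a : G) * b = b * a
      calc (a : G) * b = g⁻¹ * ((g * a * g⁻¹) * (g * b * g⁻¹)) * g := by group
        _ = g⁻¹ * ((g * b * g⁻¹) * (g * a * g⁻¹)) * g := by rw [h]
        _ = _ := by group
    · have h := c.hexp _ (hmem x hx)
      calc x ^ 2 = g⁻¹ * ((g * x * g⁻¹) * (g * x * g⁻¹)) * g := by rw [sq]; group
        _ = 1 := by rw [h]; group
  obtain ⟨n, hn⟩ := IsPGroup.iff_card.1 c.P.isPGroup'
  refine ⟨F, iF, iFF, n, ?_, hF.trans hn, he⟩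
  by_contra h
  have := c.h4
  have : 2 ^ n ≤ 2 ^ 1 := Nat.pow_le_pow_right two_pos (by omega)
  omega

end Ctx

/-- The forward direction in groups without odd core. -/
theorem forward (hM : IsPModular 2 M) (hO : oddCore G = ⊥) {u : G} (hu : u ≠ 1) {k : ℂ}
    (hk : Drop M u k) :
    Nat.card G = 2 ∨ (u * u = 1 ∧ ∃ (F : Type) (_ : Field F) (_ : Fintype F) (n : ℕ), 2 ≤ n ∧
      Fintype.card F = 2 ^ n ∧ Nonempty (G ≃* Matrix.ProjectiveSpecialLinearGroup (Fin 2) F)) := by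
  classical
  haveI : Fact (Nat.Prime 2) := ⟨Nat.prime_two⟩
  obtain ⟨hs, hu2, hone, hsq⟩ := section_facts hM hO hu hk
  obtain ⟨P, hP⟩ := (isPGroup_of_ppower Nat.prime_two ⟨1, by rw [hs, pow_one]⟩).exists_le_sylow
  have hsP : ppt 2 u ∈ (P : Subgroup G) := hP (Subgroup.mem_zpowers _)
  have hexp : ∀ a ∈ (P : Subgroup G), a * a = 1 := fun a ha => hsq a (by
    obtain ⟨j, hj⟩ := IsPGroup.iff_orderOf.1 P.isPGroup' ⟨a, ha⟩
    exact ⟨j, by rwa [Subgroup.orderOf_mk] at hj⟩)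
  have hone' : ∀ v : G, v * v = 1 → v ≠ 1 → IsConj v (ppt 2 u) := fun v hv hv1 =>
    hone v (orderOf_eq_prime (by rwa [sq]) hv1)
  by_cases h4 : 4 ≤ Nat.card (P : Subgroup G)
  · exact Or.inr (Ctx.psl ⟨hM, hO, u, hu, P, hsP, hexp, hone', h4, by
      rwa [← drop_eq_card hM hO hu hk P]⟩)
  left
  obtain ⟨j, hj⟩ := IsPGroup.iff_card.1 P.isPGroup'
  have hcard : Nat.card (P : Subgroup G) = 2 := by
    rcases j with _ | _ | j
    · rw [pow_zero, Subgroup.card_eq_one] at hj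
      exfalso
      rw [hj, Subgroup.mem_bot] at hsP
      rw [hsP, orderOf_one] at hs
      omega
    · simpa using hj
    · have : 2 ^ 2 ≤ 2 ^ (j + 1 + 1) := Nat.pow_le_pow_right two_pos (by omega)
      omega
  have hcent : Subgroup.normalizer ((P : Subgroup G) : Set G) ≤
      Subgroup.centralizer ((P : Subgroup G) : Set G) := by
    intro x hx
    refine Subgroup.mem_centralizer_iff.2 fun a ha => ?_
    have h1 := (Subgroup.mem_normalizer_iff.1 hx a).1 ha
    have hs2 : ppt 2 u ^ 2 = 1 := orderOf_dvd_iff_pow_eq_one.1 hs.dvd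
    have : (P : Subgroup G) = Subgroup.zpowers (ppt 2 u) := (Subgroup.eq_of_le_of_card_ge
      (Subgroup.zpowers_le.2 hsP) (by rw [Nat.card_zpowers, hs, hcard])).symm
    have hmem : ∀ b ∈ (P : Subgroup G), b = 1 ∨ b = ppt 2 u := by
      intro b hb
      rw [this, Subgroup.mem_zpowers_iff] at hb
      obtain ⟨i, rfl⟩ := hb
      rcases Int.even_or_odd i with ⟨m, rfl⟩ | ⟨m, rfl⟩
      · left
        rw [← two_mul, zpow_mul, show (ppt 2 u) ^ (2 : ℤ) = 1 by
          rw [show (2 : ℤ) = ((2 : ℕ) : ℤ) from rfl, zpow_natCast]; exact hs2, one_zpow]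
      · right
        rw [zpow_add_one, zpow_mul, show (ppt 2 u) ^ (2 : ℤ) = 1 by
          rw [show (2 : ℤ) = ((2 : ℕ) : ℤ) from rfl, zpow_natCast]; exact hs2, one_zpow,
          one_mul]
    rcases hmem a ha with rfl | rfl
    · simp
    · rcases hmem _ h1 with h | h
      · rw [conj_eq_one_iff] at h
        rw [h, orderOf_one] at hs
        omega
      · exact (mul_inv_eq_iff_eq_mul.1 h).symm
  obtain ⟨K, hKn, hKodd, -, hidx, -⟩ := exists_complement_of_central P hcent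
  haveI := hKn
  have hKle : K ≤ oddCore G :=
    Fusion.le_pPrimeCore (Nat.coprime_comm.1 (Nat.prime_two.coprime_iff_not_dvd.2 hKodd))
  rw [hO, le_bot_iff] at hKle
  rw [hKle, Subgroup.index_bot, hcard] at hidx
  exact hidx

end Cfsg.Agent.Char.ConstDrop
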