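import Cfsg.Agent.Lib.Char.ConstantDrop.SelfCent
import Cfsg.Agent.Lib.Char.Coprime

/-!
# Linear characters of centralizers in the Sylow subgroup
-/

set_option autoImplicit false
set_option linter.unusedSectionVars false
set_option linter.style.haveILetI false

namespace Cfsg.Agent.Char.ConstDrop

open Cfsg Module
open scoped ComplexConjugate

universe u

/-- The coefficient idempotent of a block squares to itself. -/
theorem conv_blockCoeff {G : Type u} [Group G] [Fintype G] (B : Set (IrrCharacter G)) :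
    conv (blockCoeff B) (blockCoeff B) = blockCoeff B := by
  classical
  have hc := isClassFunction_blockCoeff (G := G) B
  conv_lhs => rw [classFun_eq_sum_idem (isClassFunction_conv hc hc)]
  conv_rhs => rw [classFun_eq_sum_idem hc]
  refine Finset.sum_congr rfl fun χ _ => ?_
  rw [lam_conv χ.2 hc hc, lam_blockCoeff]
  split_ifs <;> simp

/-- A root of unity of odd order congruent to one is one. -/
theorem root_eq_one {M : Ideal AlgInt} (hM : IsPModular 2 M) {z : ℂ} {m : ℕ} (hm : ¬ 2 ∣ m)
    (hz : z ^ m = 1) (h : MemLocalIdeal M (z - 1)) : z = 1 := by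
  by_contra hne
  have hP := pmod_prime hM
  have hm0 : m ≠ 0 := fun e => hm (e ▸ dvd_zero 2)
  have hzR : MemLocalRing M z :=
    memLocalRing_of_isIntegral hP.ne_top (root_of_unity_isIntegral hm0 hz)
  have hs : ∑ i ∈ Finset.range m, z ^ i = 0 := by
    rw [geom_sum_eq hne, hz, sub_self, zero_div]
  have h2 : MemLocalIdeal M (∑ i ∈ Finset.range m, (z ^ i - 1)) :=
    memLI_sum hP _ _ fun i _ => by
      rw [← geom_sum_mul z i]
      exact memLI_mul_left hP (memLR_sum hP _ _ fun j _ => memLR_pow hP hzR j) h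
  rw [Finset.sum_sub_distrib, hs, zero_sub, Finset.sum_const, Finset.card_range, nsmul_eq_mul,
    mul_one] at h2
  exact hm ((memLI_natCast_iff hM _).1 (by simpa using memLI_neg hP h2))

variable {G : Type u} [Group G] [Fintype G] {M : Ideal AlgInt}

namespace Ctx

variable (c : Ctx M G)

include c in
/-- The idempotent at regular elements centralizing an involution. -/
theorem blockCoeff_regular {x : G} (hx : ¬ 2 ∣ orderOf x) {t : G} (ht : orderOf t = 2)
    (htx : Commute t x) :
    MemLocalIdeal M (blockCoeff (principalBlock M G) x - 1) := by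
  classical
  haveI : Fact (Nat.Prime 2) := ⟨Nat.prime_two⟩
  have hP := pmod_prime c.hM
  obtain ⟨o, ho⟩ : ∃ o, o = (c.P : Subgroup G).index := ⟨_, rfl⟩
  have hodd : ¬ 2 ∣ o := ho ▸ c.P.not_dvd_index
  have ho0 : (o : ℂ) ≠ 0 := Nat.cast_ne_zero.2 fun e => hodd (e ▸ dvd_zero 2)
  have hG : (Nat.card G : ℂ) = (c.q : ℂ) * o := by
    rw [ho, q, ← Nat.cast_mul, Subgroup.card_mul_index]
  have hxi : ¬ 2 ∣ orderOf x⁻¹ := by rwa [orderOf_inv]
  have hev := Phi_even c.hM ht hxi htx.inv_right
  rw [Phi_eq c.hM] at hev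
  have hreg : ∑ χ ∈ PB M G, (χ : G → ℂ) 1 * conj ((χ : G → ℂ) x) =
      (c.q : ℂ) * ∑ χ ∈ SB M G, (χ : G → ℂ) x⁻¹ := by
    rw [sum_PB c.hM]
    simp only [oneI_apply, map_one, mul_one]
    rw [Finset.sum_congr rfl fun χ hχ => by
      rw [← char_inv (irr_isCharacter χ.2), c.degree_eq hχ, add_mul], Finset.sum_add_distrib,
      c.sum_value_regular hxi, ← Finset.mul_sum]
    ring
  have e : blockCoeff (principalBlock M G) x =
      (o : ℂ)⁻¹ * ∑ χ ∈ SB M G, (χ : G → ℂ) x⁻¹ := by
    rw [blockCoeff, finsum_mem_irr,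
      show (Finset.univ.filter fun χ : IrrCharacter G => χ ∈ principalBlock M G) = PB M G by
        ext; simp [PB], hreg, hG]
    field_simp [c.q_ne]
  rw [e]
  have h1 : MemLocalIdeal M ((o : ℂ) + 1) := by
    rw [show (o : ℂ) + 1 = ((o + 1 : ℕ) : ℂ) by push_cast; ring, memLI_natCast_iff c.hM]
    omega
  have := memLI_mul_left hP (memLR_inv_natCast c.hM hodd) (memLI_sub hP hev h1)
  convert this using 1
  field_simp
  ring

include c in
theorem blockCoeff_singular {x : G} (hx : 2 ∣ orderOf x) :
    blockCoeff (principalBlock M G) x = 0 := by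
  classical
  rw [blockCoeff, finsum_mem_irr,
    show (Finset.univ.filter fun χ : IrrCharacter G => χ ∈ principalBlock M G) = PB M G by
      ext; simp [PB], orth_reg_sing c.hM hx (x := (1 : G)) (by simp), mul_zero]

/-- Linear characters of the centralizer of a nontrivial subgroup of the Sylow subgroup are
trivial on odd elements when trivial on the Sylow subgroup. -/
theorem linear_trivial {R : Subgroup G} (hR : R ≤ (c.P : Subgroup G)) {t : G} (ht : t ∈ R)
    (ht1 : t ≠ 1) (H : Subgroup G) (hH : H = Subgroup.centralizer (R : Set G)) (l : H →* ℂˣ)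
    (hl : ∀ a : H, (a : G) ∈ (c.P : Subgroup G) → l a = 1)
    (x : H) (hx : ¬ 2 ∣ orderOf x) : l x = 1 := by
  classical
  haveI : Fact (Nat.Prime 2) := ⟨Nat.prime_two⟩
  haveI : Fintype H := Fintype.ofFinite _
  have hM := c.hM
  have hP := pmod_prime hM
  have hRp : IsPGroup 2 R := c.P.isPGroup'.to_le hR
  have hHN : H ≤ Subgroup.normalizer (R : Set G) := hH.le.trans (Subgroup.centralizer_le_normalizer _)
  have heB := isIntClassFun_blockCoeff hM (isPBlock_principalBlock (G := G) M)
  obtain ⟨f, hfdef⟩ : ∃ f, f = brRes R H (blockCoeff (principalBlock M G)) := ⟨_, rfl⟩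
  have hf : IsIntClassFun M f := hfdef ▸ intClassFun_brRes hP hHN heB
  have hfval : ∀ y : H, MemLocalIdeal M (f y - (regInd 2 : H → ℂ) y) := by
    intro y
    rw [hfdef, brRes, if_pos (hH.le y.2)]
    by_cases hy : 2 ∣ orderOf y
    · rw [c.blockCoeff_singular (by rwa [Subgroup.orderOf_coe]), regInd_of_sing hy, sub_self]
      exact memLI_zero hP
    · rw [regInd_of_reg hy]
      exact c.blockCoeff_regular (by rwa [Subgroup.orderOf_coe]) (c.orderOf_P (hR ht) ht1)
        (Subgroup.mem_centralizer_iff.1 (hH.le y.2) t ht)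
  have hidem : ∀ y : H, MemLocalIdeal M (f y - conv f f y) := by
    intro y
    have h := brRes_conv hM hRp hH.ge heB heB y
    rw [conv_blockCoeff] at h
    rwa [← hfdef] at h
  -- the twist
  have hlR : ∀ y : H, MemLocalRing M (l y : ℂ) := fun y => memLR_char hP (isCharacter_linear l) y
  obtain ⟨g, hgdef⟩ : ∃ g : H → ℂ, ∀ y, g y = (l y : ℂ) * f y := ⟨_, fun _ => rfl⟩
  have hlcf := isClassFunction_character (isCharacter_linear l)
  have hlc : ∀ a k : H, (l (k * a * k⁻¹) : ℂ) = (l a : ℂ) := hlcf
  have hg : IsIntClassFun M g := ⟨fun a k => by rw [hgdef, hgdef, hlc, hf.1 a k],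
    fun y => hgdef y ▸ memLR_mul hP (hlR y) (hf.2 y)⟩
  -- the twist preserves the principal block
  have hl0 : (⟨fun y => (l y : ℂ), isIrrCharacter_linear l⟩ : IrrCharacter H) ∈ principalBlock M H := by
    refine (lam_regInd_unit_iff hM _).1 fun h0 => ?_
    have hcf : IsClassFunction H fun y => (regInd 2 : H → ℂ) y * (l y : ℂ) := fun a k => by
      simp only [isClassFunction_regInd 2 a k, hlcf a k]
    have hPH : (c.P : Subgroup G) ≤ H := (c.P_le_cent.trans (Subgroup.centralizer_le (SetLike.coe_subset_coe.2 hR))).trans hH.ge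
    have hPp : IsPGroup 2 ((c.P : Subgroup G).subgroupOf H) :=
      c.P.isPGroup'.of_equiv (Subgroup.subgroupOfEquivOfLe hPH).symm
    have h := sum_centralizer_congr hM hPp _
      (fun y => memLR_mul hP ((intClassFun_regInd hP).2 y) (hlR y)) (fun a _ y => hcf y a)
    rw [lam] at h0
    simp only [map_one, Units.val_one, div_one] at h0
    have h1 := memLI_sub hP h0 h
    rw [sub_sub_cancel, Finset.sum_eq_single (1 : H) (fun y hy hy1 => ?_) (by simp)] at h1
    · rw [regInd_of_reg (by simp), map_one, Units.val_one, one_mul] at h1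
      exact memLI_one_iff hP h1
    · rw [regInd_of_sing, zero_mul]
      have hyP : (y : G) ∈ (c.P : Subgroup G) := by
        rw [← c.cent_eq]
        refine Subgroup.mem_centralizer_iff.2 fun a ha => ?_
        exact congrArg Subtype.val (Subgroup.mem_centralizer_iff.1 (Finset.mem_filter.1 hy).2
          ⟨a, hPH ha⟩ (Subgroup.mem_subgroupOf.2 ha))
      rw [← Subgroup.orderOf_coe, c.orderOf_P hyP fun e => hy1 (Subtype.ext e)]
  have htwist : ∀ ξ : IrrCharacter H, ξ ∈ principalBlock M H →
      (⟨fun y => (l y : ℂ) * (ξ : H → ℂ) y, isIrr_linear_mul ξ.2 l⟩ : IrrCharacter H) ∈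
        principalBlock M H := by
    intro ξ hξ y
    have h1 := memLI_mul_left hP (hlR y) (hξ y)
    have h2 := hl0 y
    have h3 := memLI_add hP h1 h2
    simp only [centralChar, map_one, Units.val_one, one_mul, mul_one, div_one] at h3 ⊢
    convert h3 using 1
    ring
  have hlinv : ∀ ξ : IrrCharacter H,
      (⟨fun y => (l y : ℂ) * (ξ : H → ℂ) y, isIrr_linear_mul ξ.2 l⟩ : IrrCharacter H) ∈
        principalBlock M H → ξ ∈ principalBlock M H := by
    intro ξ hξ y
    have h2 := hl0 y
    have h1 := hξ y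
    simp only [centralChar, map_one, Units.val_one, one_mul, mul_one, div_one] at h1 h2 ⊢
    have hu : (l y : ℂ) * ((l y)⁻¹ : ℂˣ) = 1 := by rw [← Units.val_mul, mul_inv_cancel, Units.val_one]
    have h3 := memLI_mul_left hP (show MemLocalRing M (((l y)⁻¹ : ℂˣ) : ℂ) by
      simpa [map_inv] using hlR y⁻¹) (memLI_sub hP h1 h2)
    convert h3 using 1
    linear_combination (((Subgroup.centralizer ({y} : Set H)).index : ℂ) * (ξ : H → ℂ) y / (ξ : H → ℂ) 1
      - ((Subgroup.centralizer ({y} : Set H)).index : ℂ)) * hu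
  -- the central characters of the difference vanish
  have hval : ∀ ξ : IrrCharacter H, (ξ ∈ principalBlock M H → MemLocalIdeal M (lam (ξ : H → ℂ) f - 1)) ∧
      (ξ ∉ principalBlock M H → MemLocalIdeal M (lam (ξ : H → ℂ) f)) := by
    intro ξ
    have hcong : MemLocalIdeal M (lam (ξ : H → ℂ) f - lam (ξ : H → ℂ) (regInd 2)) := by
      rw [← lam_sub]
      exact memLI_lam hP ξ.2 (intClassFun_sub hP hf (intClassFun_regInd hP)).1 hfval
    have hsq : MemLocalIdeal M (lam (ξ : H → ℂ) f * (lam (ξ : H → ℂ) f - 1)) := by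
      rw [mul_sub, mul_one, ← lam_conv ξ.2 hf.1 hf.1, ← lam_sub]
      refine memLI_lam hP ξ.2 (intClassFun_sub hP (intClassFun_conv hP hf hf) hf).1 fun y => ?_
      exact memLI_symm hP (hidem y)
    have hLR := memLR_lam hP ξ.2 hf.1 hf.2
    have hor := memLI_mul_mem hP hLR (memLR_sub hP hLR (memLR_one hP)) hsq
    have hiff := lam_regInd_unit_iff hM ξ
    refine ⟨fun hξ => hor.resolve_left fun h0 => hiff.2 hξ (memLI_congr hP (memLI_symm hP hcong) h0),
      fun hξ => ?_⟩
    by_contra h0
    exact hξ (hiff.1 fun h1 => h0 (memLI_congr hP hcong h1))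
  have hlam : ∀ ξ : IrrCharacter H, MemLocalIdeal M (lam (ξ : H → ℂ) (f - g)) := by
    intro ξ
    let ξ' : IrrCharacter H := ⟨fun y => (l y : ℂ) * (ξ : H → ℂ) y, isIrr_linear_mul ξ.2 l⟩
    have e : lam (ξ : H → ℂ) g = lam (ξ' : H → ℂ) f := by
      simp only [lam, ξ', hgdef, map_one, Units.val_one, one_mul]
      congr 1
      exact Finset.sum_congr rfl fun y _ => by ring
    rw [lam_sub, e]
    by_cases hξ : ξ ∈ principalBlock M H
    · have := memLI_sub hP ((hval ξ).1 hξ) ((hval ξ').1 (htwist ξ hξ))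
      convert this using 1
      ring
    · exact memLI_sub hP ((hval ξ).2 hξ) ((hval ξ').2 fun h => hξ (hlinv ξ h))
  obtain ⟨n, hn⟩ := exists_cpow_memLI hM (intClassFun_sub hP hf hg) hlam
  -- the difference is idempotent
  have hsq : ∀ y : H, MemLocalIdeal M (conv (f - g) (f - g) y - (f - g) y) := by
    intro y
    have hll : ∀ z : H, (l z : ℂ) * (l (z⁻¹ * y) : ℂ) = (l y : ℂ) := fun z => by
      rw [← Units.val_mul, ← map_mul, mul_inv_cancel_left]
    have hswap : ∑ z : H, (l (z⁻¹ * y) : ℂ) * (f z * f (z⁻¹ * y)) =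
        ∑ z : H, (l z : ℂ) * (f z * f (z⁻¹ * y)) := by
      refine Fintype.sum_equiv ((Equiv.inv H).trans (Equiv.mulRight y)) _ _ fun z => ?_
      simp only [Equiv.trans_apply, Equiv.inv_apply, Equiv.coe_mulRight, mul_inv_rev, inv_inv]
      rw [show f (y⁻¹ * z * y) = f z by
        simpa using hf.1 z y⁻¹]
      ring
    have e : conv (f - g) (f - g) y - (f - g) y =
        (1 + (l y : ℂ)) * (conv f f y - f y) + 2 * ((l y : ℂ) * f y) -
          2 * ∑ z : H, (l z : ℂ) * (f z * f (z⁻¹ * y)) := by
      have e1 : conv (f - g) (f - g) y = (1 + (l y : ℂ)) * conv f f y -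
          ∑ z : H, (l (z⁻¹ * y) : ℂ) * (f z * f (z⁻¹ * y)) -
          ∑ z : H, (l z : ℂ) * (f z * f (z⁻¹ * y)) := by
        simp only [conv, Finset.mul_sum, ← Finset.sum_sub_distrib]
        refine Finset.sum_congr rfl fun z _ => ?_
        rw [← hll z, Pi.sub_apply, Pi.sub_apply, hgdef, hgdef]
        ring
      rw [e1, hswap, Pi.sub_apply, hgdef]
      ring
    rw [e]
    exact memLI_sub hP (memLI_add hP (memLI_mul_left hP (memLR_add hP (memLR_one hP) (hlR y))
      (memLI_symm hP (hidem y))) (memLI_mul_right hP (by simpa using memLI_p hM)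
        (memLR_mul hP (hlR y) (hf.2 y))))
      (memLI_mul_right hP (by simpa using memLI_p hM) (memLR_sum hP _ _ fun z _ =>
        memLR_mul hP (hlR z) (memLR_mul hP (hf.2 z) (hf.2 _))))
  have hfg := intClassFun_sub hP hf hg
  have hpow : ∀ (n : ℕ) (y : H), MemLocalIdeal M (cpow (f - g) (n + 1) y - (f - g) y) := by
    intro n
    induction n with
    | zero =>
      intro y
      have : cpow (f - g) 1 y = (f - g) y := by
        show conv delta (f - g) y = _
        simp [conv, delta_apply]
      rw [this, sub_self]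
      exact memLI_zero hP
    | succ n ih =>
      intro y
      have h1 : MemLocalIdeal M (conv (cpow (f - g) (n + 1)) (f - g) y - conv (f - g) (f - g) y) := by
        simp only [conv]
        rw [← Finset.sum_sub_distrib]
        refine memLI_sum hP _ _ fun z _ => ?_
        rw [← sub_mul]
        exact memLI_mul_right hP (ih z) (hfg.2 _)
      exact memLI_trans hP h1 (hsq y)
  have hzero : ∀ y : H, MemLocalIdeal M ((f - g) y) := by
    intro y
    rcases n with _ | n
    · refine absurd (hn 1) ?_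
      show ¬ MemLocalIdeal M (delta (1 : H))
      rw [delta_apply, if_pos rfl]
      exact memLI_one_iff hP
    · exact memLI_congr hP (memLI_symm hP (hpow n y)) (hn y)
  refine Units.ext (root_eq_one hM hx ?_ ?_)
  · rw [← Units.val_pow_eq_pow_val, ← map_pow, pow_orderOf_eq_one, map_one, Units.val_one]
  · have h1 := hzero x
    rw [Pi.sub_apply, hgdef] at h1
    have h2 := hfval x
    rw [regInd_of_reg hx] at h2
    have := memLI_add hP h1 (memLI_mul_left hP (memLR_sub hP (hlR x) (memLR_one hP)) h2)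
    convert memLI_neg hP this using 1
    ring

end Ctx

end Cfsg.Agent.Char.ConstDrop
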