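import Cfsg.Agent.Lib.Char.ConstantDrop.Linear
import Cfsg.Agent.Lib.Char.LinearExt

/-!
# The centralizer of the involution has a normal 2-complement
-/

set_option autoImplicit false
set_option linter.unusedSectionVars false
set_option linter.style.haveILetI false

namespace Cfsg.Agent.Char.ConstDrop

open Cfsg Module
open scoped ComplexConjugate

universe u

/-- Equal real parts force all eigenvalues to be one. -/
theorem all_one_of_re {ι : Type*} [Fintype ι] {m : ℕ} (hm : m ≠ 0) (μ : ι → ℂ)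
    (hμ : ∀ i, μ i ^ m = 1) (h : (∑ i, μ i).re = Fintype.card ι) : ∀ i, μ i = 1 := by
  have hle : ∀ i ∈ (Finset.univ : Finset ι), (μ i).re ≤ 1 := fun i _ =>
    (Complex.re_le_norm _).trans (root_of_unity_norm hm (hμ i)).le
  have hs : ∑ i, (μ i).re = ∑ _i : ι, (1 : ℝ) := by
    rw [← Complex.re_sum, h, Finset.sum_const, Finset.card_univ, nsmul_eq_mul, mul_one]
  intro i
  have h1 := (Finset.sum_eq_sum_iff_of_le hle).1 hs i (Finset.mem_univ i)
  have h2 := root_of_unity_norm hm (hμ i)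
  have him : (μ i).im = 0 := by
    have h3 := Complex.normSq_apply (μ i)
    rw [Complex.normSq_eq_norm_sq, h2, h1] at h3
    have : (μ i).im * (μ i).im = 0 := by linarith
    exact mul_self_eq_zero.1 this
  exact Complex.ext (by rw [h1, Complex.one_re]) (by rw [him, Complex.one_im])

/-- The symmetric form of the product lemma. -/
theorem prod_eq_of_power_sums' {ι κ : Type*} [Fintype ι] [Fintype κ] {r : ℕ} (hr : Odd r)
    (μ : ι → ℂ) (ν : κ → ℂ) (hμ : ∀ i, μ i ^ r = 1) (hν : ∀ i, ν i ^ r = 1)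
    (h : ∀ k, 0 < k → k < r → ∑ i, μ i ^ k = ∑ i, ν i ^ k) : ∏ i, μ i = ∏ i, ν i := by
  rcases le_total (Fintype.card κ) (Fintype.card ι) with h1 | h1
  · exact prod_eq_of_power_sums hr μ ν hμ hν h h1
  · exact (prod_eq_of_power_sums hr ν μ hν hμ (fun k hk hk' => (h k hk hk').symm) h1).symm

variable {G : Type u} [Group G] [Fintype G] {M : Ideal AlgInt}

/-- Characters do not see the order of two factors. -/
theorem char_mul_comm {χ : G → ℂ} (hχ : IsCharacter G χ) (x y : G) : χ (x * y) = χ (y * x) := by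
  rw [← isClassFunction_character hχ (y * x) x]
  group

/-- Eigenvalues of an element on the image of a commuting idempotent. -/
theorem exists_proj_eigen {V : Type*} [AddCommGroup V] [Module ℂ V] [FiniteDimensional ℂ V]
    (ρ : Representation ℂ G V) (E : Module.End ℂ V) (hE : E * E = E) (H : Subgroup G)
    (hc : ∀ x ∈ H, ρ x * E = E * ρ x) {h : G} (hh : h ∈ H) :
    ∃ (n : ℕ) (μ : Fin n → ℂ), (∀ i, μ i ^ orderOf h = 1) ∧
      LinearMap.trace ℂ V E = (n : ℂ) ∧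
      (∀ k : ℕ, LinearMap.trace ℂ V (ρ (h ^ k) * E) = ∑ i, μ i ^ k) ∧
      ∃ l : H →* ℂˣ, (∏ i, μ i) = (l ⟨h, hh⟩ : ℂ) ∧
        ∀ a : H, (a : G) * a = 1 → l a * l a = 1 := by
  classical
  obtain ⟨n, σ, hσ⟩ := proj_char ρ E hE H hc
  obtain ⟨μ, hμ, htr, hdet⟩ := exists_eigenvalues σ (⟨h, hh⟩ : H)
  have e : finrank ℂ (Fin n → ℂ) = n := Module.finrank_fin_fun ℂ
  refine ⟨finrank ℂ (Fin n → ℂ), μ, fun i => ?_, ?_, fun k => ?_, detHom σ, ?_, fun a ha => ?_⟩
  · rw [← Subgroup.orderOf_mk h hh]; exact hμ i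
  · have := congrFun hσ 1
    rw [Representation.char_one] at this
    rw [this, OneMemClass.coe_one, map_one, one_mul]
  · rw [← htr k, congrFun hσ _, Subgroup.coe_pow]
  · rw [detHom_apply, ← pow_one (⟨h, hh⟩ : H), hdet 1]
    simp
  · rw [← map_mul, show a * a = 1 from Subtype.ext ha, map_one]

namespace Ctx

variable (c : Ctx M G)

/-- Every odd element of `C(s)` normalizing the Sylow subgroup is trivial: the prime order case. -/
theorem no_prime_order {h : G} {r : ℕ} (hr : r.Prime) (hr2 : r ≠ 2) (hord : orderOf h = r)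
    (hn : h ∈ Subgroup.normalizer ((c.P : Subgroup G) : Set G)) (hs : Commute h c.s) : False := by
  classical
  haveI : Fact (Nat.Prime 2) := ⟨Nat.prime_two⟩
  haveI := Fact.mk hr
  have hrodd : Odd r := hr.odd_of_ne_two hr2
  have hP := pmod_prime c.hM
  set P := (c.P : Subgroup G) with hPdef
  have hreg : ∀ k, ¬ 2 ∣ orderOf (h ^ k) := fun k h2 => by
    have := h2.trans (orderOf_pow_dvd k)
    rw [hord, Nat.prime_dvd_prime_iff_eq Nat.prime_two hr] at this
    exact hr2 this.symm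
  have hconj : ∀ {a : G}, a ∈ P → h * a * h⁻¹ ∈ P := fun {a} ha =>
    (Subgroup.mem_normalizer_iff.1 hn a).1 ha
  have hsq := c.hexp
  have hinv : ∀ {a : G}, a ∈ P → a⁻¹ = a := fun {a} ha => inv_eq_of_mul_eq_one_right (hsq a ha)
  have hP4 : ∀ {a b x y : G}, a ∈ P → b ∈ P → x ∈ P → y ∈ P → (a * b) * (x * y) = (a * x) * (b * y) := by
    intro a b x y _ hb hx _
    rw [mul_assoc, ← mul_assoc b, c.comm hb hx, mul_assoc x, ← mul_assoc a]
  obtain ⟨P0, hP0⟩ : ∃ R : Subgroup G, R = P ⊓ Subgroup.centralizer ({h} : Set G) := ⟨_, rfl⟩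
  have hP0le : P0 ≤ P := hP0.le.trans inf_le_left
  have hfix : ∀ {a : G}, a ∈ P → (a ∈ P0 ↔ h * a * h⁻¹ = a) := fun {a} ha => by
    rw [hP0, Subgroup.mem_inf, Subgroup.mem_centralizer_singleton_iff]
    exact ⟨fun e => by rw [← e.2, mul_inv_cancel_right], fun e => ⟨ha, mul_inv_eq_iff_eq_mul.1 e |>.symm⟩⟩
  let P1 : Subgroup G :=
    { carrier := {x | ∃ a ∈ P, x = a * (h * a * h⁻¹)}
      one_mem' := ⟨1, one_mem _, by group⟩
      mul_mem' := by
        rintro _ _ ⟨a, ha, rfl⟩ ⟨b, hb, rfl⟩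
        refine ⟨a * b, mul_mem ha hb, ?_⟩
        rw [hP4 ha (hconj ha) hb (hconj hb)]
        group
      inv_mem' := by
        rintro _ ⟨a, ha, rfl⟩
        exact ⟨a, ha, hinv (mul_mem ha (hconj ha))⟩ }
  have hP1le : P1 ≤ P := by
    rintro _ ⟨a, ha, rfl⟩
    exact mul_mem ha (hconj ha)
  have hdisj : ∀ x ∈ P0, x ∈ P1 → x = 1 := by
    intro x hx0
    rintro ⟨a, ha, rfl⟩
    obtain ⟨x, hx⟩ : ∃ x, x = a * (h * a * h⁻¹) := ⟨_, rfl⟩
    rw [← hx] at hx0 ⊢
    have hxP : x ∈ P := hP0le hx0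
    have hxh : h * x * h⁻¹ = x := (hfix hxP).1 hx0
    have h1 : h * a * h⁻¹ = a * x := by
      rw [hx, ← mul_assoc, hsq a ha, one_mul]
    have key : ∀ i : ℕ, h ^ i * a * (h ^ i)⁻¹ = a * x ^ i := by
      intro i
      induction i with
      | zero => simp
      | succ i ih =>
        rw [pow_succ' h i, show h * h ^ i * a * (h * h ^ i)⁻¹ = h * (h ^ i * a * (h ^ i)⁻¹) * h⁻¹ by group,
          ih, show h * (a * x ^ i) * h⁻¹ = (h * a * h⁻¹) * (h * x * h⁻¹) ^ i by rw [conj_pow]; group,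
          h1, hxh, mul_assoc, ← pow_succ']
    have h2 := key r
    rw [← hord, pow_orderOf_eq_one, one_mul, inv_one, mul_one, hord, left_eq_mul] at h2
    obtain ⟨j, hj⟩ := hrodd
    rw [hj, pow_succ, pow_mul, sq, hsq x hxP, one_pow, one_mul] at h2
    exact h2
  -- telescoping
  have hconjk : ∀ (k : ℕ) {a : G}, a ∈ P → h ^ k * a * (h ^ k)⁻¹ ∈ P := fun k {a} ha =>
    (Subgroup.mem_normalizer_iff.1 (pow_mem hn k) a).1 ha
  have htel : ∀ (k : ℕ) {a : G}, a ∈ P → a * (h ^ k * a * (h ^ k)⁻¹) ∈ P1 := by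
    intro k a ha
    induction k with
    | zero => simp [hsq a ha]
    | succ k ih =>
      have h1 : h ^ k * a * (h ^ k)⁻¹ * (h * (h ^ k * a * (h ^ k)⁻¹) * h⁻¹) ∈ P1 :=
        ⟨_, hconjk k ha, rfl⟩
      have := mul_mem ih h1
      rw [show a * (h ^ k * a * (h ^ k)⁻¹) * (h ^ k * a * (h ^ k)⁻¹ * (h * (h ^ k * a * (h ^ k)⁻¹) * h⁻¹)) =
        a * ((h ^ k * a * (h ^ k)⁻¹) * (h ^ k * a * (h ^ k)⁻¹)) * (h * (h ^ k * a * (h ^ k)⁻¹) * h⁻¹) by
          group, hsq _ (hconjk k ha), mul_one] at this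
      convert this using 1
      rw [pow_succ']
      group
  have hsurj : ∀ k, ¬ r ∣ k → ∀ b ∈ P1, ∃ x ∈ P1, x * (h ^ k * x * (h ^ k)⁻¹) = b := by
    intro k hk b hb
    let φ : P1 → P1 := fun x => ⟨(x : G) * (h ^ k * x * (h ^ k)⁻¹), htel k (hP1le x.2)⟩
    have hinj : Function.Injective φ := by
      intro x y e
      have e1 : (x : G) * (h ^ k * x * (h ^ k)⁻¹) = (y : G) * (h ^ k * y * (h ^ k)⁻¹) :=
        congrArg Subtype.val e
      obtain ⟨z, hz⟩ : ∃ z, z = (x : G) * y := ⟨_, rfl⟩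
      have hzP : z ∈ P := hz ▸ mul_mem (hP1le x.2) (hP1le y.2)
      have hz1 : z ∈ P1 := hz ▸ mul_mem x.2 y.2
      have e2 : z * (h ^ k * z * (h ^ k)⁻¹) = 1 := by
        rw [hz, show (x : G) * y * (h ^ k * ((x : G) * y) * (h ^ k)⁻¹) =
          (x : G) * y * ((h ^ k * x * (h ^ k)⁻¹) * (h ^ k * y * (h ^ k)⁻¹)) by group,
          hP4 (hP1le x.2) (hP1le y.2) (hconjk k (hP1le x.2)) (hconjk k (hP1le y.2)), e1]
        exact hsq _ (mul_mem (hP1le y.2) (hconjk k (hP1le y.2)))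
      have e3 : h ^ k * z * (h ^ k)⁻¹ = z := by
        rw [eq_inv_of_mul_eq_one_right e2, hinv hzP]
      have e4 : Commute (h ^ k) z := mul_inv_eq_iff_eq_mul.1 e3
      obtain ⟨m, hm⟩ := exists_pow_eq_self_of_coprime (x := h) (n := k) (by
        rw [hord]; exact ((Nat.Prime.coprime_iff_not_dvd hr).2 hk).symm)
      have e5 : Commute h z := hm ▸ e4.pow_left m
      have h6 := hdisj z ((hfix hzP).2 (by rw [e5.eq, mul_inv_cancel_right])) hz1
      rw [hz] at h6
      exact Subtype.ext (by rw [eq_inv_of_mul_eq_one_left h6, hinv (hP1le y.2)])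
    obtain ⟨x, hx⟩ := (Finite.injective_iff_surjective.1 hinj) ⟨b, hb⟩
    exact ⟨x, x.2, congrArg Subtype.val hx⟩
  have hk1 : ¬ r ∣ 1 := hr.not_dvd_one
  have hdecomp : ∀ a ∈ P, ∃ a0 ∈ P0, ∃ b ∈ P1, a = a0 * b := by
    intro a ha
    obtain ⟨b, hb, e⟩ := hsurj 1 hk1 _ ⟨a, ha, rfl⟩
    rw [pow_one] at e
    have hab : a * b ∈ P := mul_mem ha (hP1le hb)
    refine ⟨a * b, (hfix hab).2 ?_, b, hb, by rw [mul_assoc, hsq b (hP1le hb), mul_one]⟩
    have e1 : (a * b) * (h * (a * b) * h⁻¹) = 1 := by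
      rw [show h * (a * b) * h⁻¹ = (h * a * h⁻¹) * (h * b * h⁻¹) by group,
        hP4 ha (hP1le hb) (hconj ha) (hconj (hP1le hb)), e]
      exact hsq _ (mul_mem ha (hconj ha))
    rw [eq_inv_of_mul_eq_one_right e1, hinv hab]
  have hval : ∀ (χ : IrrCharacter G) (k : ℕ), ¬ r ∣ k → ∀ a ∈ P, ∀ b ∈ P1,
      (χ : G → ℂ) (h ^ k * (a * b)) = (χ : G → ℂ) (h ^ k * a) := by
    intro χ k hk a ha b hb
    have hχ := irr_isCharacter χ.2
    obtain ⟨x, hx, hxb⟩ := hsurj k hk b hb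
    rw [char_mul_comm hχ _ (a * b), char_mul_comm hχ _ a,
      ← isClassFunction_character hχ (a * h ^ k) x]
    refine congrArg _ ?_
    calc a * b * h ^ k = a * (x * (h ^ k * x * (h ^ k)⁻¹)) * h ^ k := by rw [hxb]
      _ = (a * x) * h ^ k * x := by group
      _ = (x * a) * h ^ k * x⁻¹ := by rw [c.comm ha (hP1le hx), hinv (hP1le hx)]
      _ = x * (a * h ^ k) * x⁻¹ := by group
  -- products with the moved part
  let T : ∀ R : Subgroup G, R ≤ P → Subgroup G := fun R hR =>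
    { carrier := {x | ∃ a ∈ R, ∃ b ∈ P1, x = a * b}
      one_mem' := ⟨1, one_mem _, 1, one_mem _, (mul_one 1).symm⟩
      mul_mem' := by
        rintro _ _ ⟨a, ha, b, hb, rfl⟩ ⟨a', ha', b', hb', rfl⟩
        exact ⟨a * a', mul_mem ha ha', b * b', mul_mem hb hb',
          hP4 (hR ha) (hP1le hb) (hR ha') (hP1le hb')⟩
      inv_mem' := by
        rintro _ ⟨a, ha, b, hb, rfl⟩
        exact ⟨a, ha, b, hb, hinv (mul_mem (hR ha) (hP1le hb))⟩ }
  have hTle : ∀ (R : Subgroup G) (hR : R ≤ P), T R hR ≤ P := by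
    rintro R hR _ ⟨a, ha, b, hb, rfl⟩
    exact mul_mem (hR ha) (hP1le hb)
  have hTR : ∀ (R : Subgroup G) (hR : R ≤ P), R ≤ T R hR := fun R hR a ha =>
    ⟨a, ha, 1, one_mem _, (mul_one a).symm⟩
  have hTsum : ∀ (R : Subgroup G) (hR0 : R ≤ P0) (F : G → ℂ),
      ∑ x : T R (hR0.trans hP0le), F (x : G) = ∑ a : R, ∑ b : P1, F ((a : G) * b) := by
    intro R hR0 F
    rw [← Fintype.sum_prod_type' (f := fun (a : R) (b : P1) => F ((a : G) * b))]
    refine (Fintype.sum_bijective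
      (fun p : R × P1 => (⟨(p.1 : G) * p.2, p.1, p.1.2, p.2, p.2.2, rfl⟩ : T R (hR0.trans hP0le)))
      ⟨?_, ?_⟩ _ _ fun _ => rfl).symm
    · rintro ⟨a, b⟩ ⟨a', b'⟩ e
      have e1 : (a : G) * b = (a' : G) * b' := congrArg Subtype.val e
      have h1 : (a' : G) * a = b' * b := by
        have h2 := congrArg (fun z => (a' : G) * z * b) e1
        simp only [mul_assoc, hsq _ (hP1le b.2), mul_one] at h2
        rw [← mul_assoc, hsq _ (hP0le (hR0 a'.2)), one_mul] at h2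
        exact h2
      have h3 := hdisj _ (mul_mem (hR0 a'.2) (hR0 a.2)) (h1 ▸ mul_mem b'.2 b.2)
      have ha : (a : G) = a' := by
        rw [eq_inv_of_mul_eq_one_right h3, hinv (hP0le (hR0 a'.2))]
      have hb : (b : G) = b' := by
        rw [ha] at e1; exact mul_left_cancel e1
      exact Prod.ext (Subtype.ext ha) (Subtype.ext hb)
    · rintro ⟨_, a, ha, b, hb, rfl⟩
      exact ⟨(⟨a, ha⟩, ⟨b, hb⟩), rfl⟩
  have hTtop : T P0 hP0le = P := le_antisymm (hTle P0 hP0le) fun a ha => hdecomp a ha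
  have hTcard : ∀ (R : Subgroup G) (hR0 : R ≤ P0),
      (Nat.card (T R (hR0.trans hP0le)) : ℂ) = (Nat.card R : ℂ) * (Nat.card P1 : ℂ) := by
    intro R hR0
    have := hTsum R hR0 (fun _ => 1)
    simpa [Nat.card_eq_fintype_card] using this
  have hP1card : (Nat.card P1 : ℂ) ≠ 0 := Nat.cast_ne_zero.2 Nat.card_pos.ne'
  have hsP0 : c.s ∈ P0 := by
    refine (hfix c.s_mem).2 ?_
    rw [hs.eq, mul_inv_cancel_right]
  -- a subgroup of index two in the fixed part
  obtain ⟨Q0, hQ0, hQ0card⟩ : ∃ Q0 : Subgroup G, Q0 ≤ P0 ∧ 2 * Nat.card Q0 = Nat.card P0 := by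
    obtain ⟨j, hj⟩ := IsPGroup.iff_card.1 (c.P.isPGroup'.to_le hP0le)
    obtain ⟨i, rfl⟩ : ∃ i, j = i + 1 := by
      refine ⟨j - 1, ?_⟩
      have : j ≠ 0 := fun e => by
        rw [e, pow_zero, Subgroup.card_eq_one] at hj
        exact c.s_ne (Subgroup.mem_bot.1 (hj ▸ hsP0))
      omega
    obtain ⟨Q, hQ⟩ := Sylow.exists_subgroup_card_pow_prime 2 (G := P0) (n := i)
      (by rw [hj]; exact pow_dvd_pow 2 (Nat.le_succ i))
    refine ⟨Q.map P0.subtype, Subgroup.map_subtype_le _, ?_⟩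
    rw [Subgroup.card_map_of_injective (Subgroup.subtype_injective _), hQ, hj, pow_succ]
    ring
  obtain ⟨QQ, hQQ⟩ : ∃ QQ : Subgroup G, QQ = T Q0 (hQ0.trans hP0le) := ⟨_, rfl⟩
  have hQQle : QQ ≤ P := hQQ ▸ hTle Q0 (hQ0.trans hP0le)
  have hQQcard : (Nat.card QQ : ℂ) = (c.q : ℂ) / 2 := by
    have h1 := hTcard P0 le_rfl
    simp only [hTtop] at h1
    rw [show (c.q : ℂ) = (Nat.card P : ℂ) from rfl, h1, hQQ, hTcard Q0 hQ0, ← hQ0card]
    push_cast
    ring
  have hnQQ : h ∈ Subgroup.normalizer (QQ : Set G) := by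
    have hkey : ∀ i : ℕ, ∀ x ∈ QQ, h ^ i * x * (h ^ i)⁻¹ ∈ QQ := by
      intro i x hx
      rw [hQQ] at hx ⊢
      obtain ⟨a, ha, b, ⟨y, hy, rfl⟩, rfl⟩ := hx
      refine ⟨a, ha, _, ⟨h ^ i * y * (h ^ i)⁻¹, hconjk i hy, rfl⟩, ?_⟩
      have hch : Commute h a := by
        have := ((hfix (hP0le (hQ0 ha))).1 (hQ0 ha))
        exact mul_inv_eq_iff_eq_mul.1 this
      rw [show h ^ i * (a * (y * (h * y * h⁻¹))) * (h ^ i)⁻¹ =
        (h ^ i * a * (h ^ i)⁻¹) * (h ^ i * (y * (h * y * h⁻¹)) * (h ^ i)⁻¹) by group,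
        (hch.pow_left i).eq, mul_inv_cancel_right]
      congr 1
      rw [show h ^ i * (y * (h * y * h⁻¹)) * (h ^ i)⁻¹ =
        (h ^ i * y * (h ^ i)⁻¹) * ((h ^ i * h) * y * (h ^ i * h)⁻¹) by group, ← pow_succ, pow_succ']
      group
    refine Subgroup.mem_normalizer_iff.2 fun x => ⟨fun hx => ?_, fun hx => ?_⟩
    · simpa using hkey 1 x hx
    · have h1 := hkey (r - 1) _ hx
      have hinvh : h ^ (r - 1) = h⁻¹ := eq_inv_of_mul_eq_one_left (by
        rw [← pow_succ, Nat.sub_add_cancel hr.one_lt.le, ← hord, pow_orderOf_eq_one])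
      rw [hinvh] at h1
      simpa [mul_assoc] using h1
  -- the fixed-space computations
  have hτ : ∀ χ ∈ SB M G, ∃ τ ψ : ℂ,
      (∑ a : P, (χ : G → ℂ) (h * (a : G)) = (c.q : ℂ) * τ) ∧
      (∑ a : QQ, (χ : G → ℂ) (h * (a : G)) = (c.q : ℂ) / 2 * (τ + 1)) ∧
      (∑ a : P1, (χ : G → ℂ) (h * (a : G)) = (Nat.card P1 : ℂ) * ψ) ∧
      τ.re ≤ ((χ : G → ℂ) c.s + 1).re ∧ ψ.re ≤ ((χ : G → ℂ) c.s + Nat.card P0).re ∧
      (τ.re = ((χ : G → ℂ) c.s + 1).re → τ = (χ : G → ℂ) c.s + 1) ∧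
      (ψ.re = ((χ : G → ℂ) c.s + Nat.card P0).re → ψ = (χ : G → ℂ) c.s + Nat.card P0) ∧
      ψ = (χ : G → ℂ) h := by
    intro χ hχ
    obtain ⟨N, ρ, hρ⟩ := irr_isCharacter χ.2
    have hq0 := c.q_ne
    set Z := Subgroup.zpowers h with hZ
    have hhZ : h ∈ Z := Subgroup.mem_zpowers h
    have hZn : ∀ (R : Subgroup G), h ∈ Subgroup.normalizer (R : Set G) → ∀ x ∈ Z,
        ρ x * avgE ρ R = avgE ρ R * ρ x := fun R hR x hx =>
      avgE_comm ρ R ((Subgroup.zpowers_le.2 hR) hx)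
    have hsub : Subgroup.centralizer (P0 : Set G) ≤ Subgroup.normalizer (Q0 : Set G) :=
      (Subgroup.centralizer_le (SetLike.coe_subset_coe.2 hQ0)).trans (Subgroup.centralizer_le_normalizer _)
    have hhC : h ∈ Subgroup.centralizer (P0 : Set G) := Subgroup.mem_centralizer_iff.2 fun a ha =>
      ((mul_inv_eq_iff_eq_mul.1 ((hfix (hP0le ha)).1 ha))).symm
    have hP1n : h ∈ Subgroup.normalizer (P1 : Set G) := by
      have hkey : ∀ i : ℕ, ∀ x ∈ P1, h ^ i * x * (h ^ i)⁻¹ ∈ P1 := by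
        rintro i _ ⟨y, hy, rfl⟩
        refine ⟨h ^ i * y * (h ^ i)⁻¹, hconjk i hy, ?_⟩
        rw [show h * (h ^ i * y * (h ^ i)⁻¹) * h⁻¹ = (h * h ^ i) * y * (h * h ^ i)⁻¹ by group,
          ← pow_succ', pow_succ]
        group
      refine Subgroup.mem_normalizer_iff.2 fun x => ⟨fun hx => by simpa using hkey 1 x hx, fun hx => ?_⟩
      have h1 := hkey (r - 1) _ hx
      have hinvh : h ^ (r - 1) = h⁻¹ := eq_inv_of_mul_eq_one_left (by
        rw [← pow_succ, Nat.sub_add_cancel hr.one_lt.le, ← hord, pow_orderOf_eq_one])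
      rw [hinvh] at h1
      simpa [mul_assoc] using h1
    have hd := sub_idem (avgE_sq ρ QQ) (avgE_sq ρ P) (avgE_mul_of_le ρ hQQle) (avgE_mul_of_ge ρ hQQle)
    obtain ⟨nP, μP, hμP, hnP, htP, -⟩ := exists_proj_eigen ρ (avgE ρ P) (avgE_sq ρ P) Z (hZn P hn) hhZ
    obtain ⟨nE, μE, hμE, hnE, htE, -⟩ := exists_proj_eigen ρ (avgE ρ QQ - avgE ρ P) hd Z
      (fun x hx => by rw [mul_sub, sub_mul, hZn QQ hnQQ x hx, hZn P hn x hx]) hhZ
    obtain ⟨nψ, μψ, hμψ, hnψ, htψ, -⟩ := exists_proj_eigen ρ (avgE ρ P1) (avgE_sq ρ P1) Z (hZn P1 hP1n) hhZ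
    obtain ⟨nA, μA, hμA, -, htA, lA, hlA, hlA2⟩ := exists_proj_eigen ρ (avgE ρ P0) (avgE_sq ρ P0)
      (Subgroup.centralizer (P0 : Set G))
      (fun x hx => avgE_comm ρ P0 (Subgroup.centralizer_le_normalizer _ hx)) hhC
    obtain ⟨nB, μB, hμB, -, htB, lB, hlB, hlB2⟩ := exists_proj_eigen ρ (avgE ρ Q0) (avgE_sq ρ Q0)
      (Subgroup.centralizer (P0 : Set G)) (fun x hx => avgE_comm ρ Q0 (hsub hx)) hhC
    rw [hord] at hμP hμE hμψ hμA hμB
    have hdet : ∀ {n : ℕ} (μ : Fin n → ℂ) (l : Subgroup.centralizer (P0 : Set G) →* ℂˣ),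
        (∀ i, μ i ^ r = 1) → (∏ i, μ i) = (l ⟨h, hhC⟩ : ℂ) →
        (∀ a : Subgroup.centralizer (P0 : Set G), (a : G) * a = 1 → l a * l a = 1) →
        ∏ i, μ i = 1 := by
      intro n μ l hμ hl hl2
      have h1 := c.linear_trivial hP0le hsP0 c.s_ne _ rfl (l * l) (fun a ha => hl2 a (hsq _ ha))
        ⟨h, hhC⟩ (by rw [Subgroup.orderOf_mk]; simpa using hreg 1)
      have h2 : (∏ i, μ i) ^ 2 = 1 := by
        rw [hl, sq, ← Units.val_mul]
        exact congrArg Units.val h1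
      have h3 : (∏ i, μ i) ^ r = 1 := by
        rw [← Finset.prod_pow]; exact Finset.prod_eq_one fun i _ => hμ i
      obtain ⟨j, hj⟩ := hrodd
      rwa [hj, pow_succ, pow_mul, h2, one_pow, one_mul] at h3
    have htrT : ∀ (R : Subgroup G) (hR0 : R ≤ P0) (S : Subgroup G), S = T R (hR0.trans hP0le) →
        ∀ k, ¬ r ∣ k → LinearMap.trace ℂ _ (ρ (h ^ k) * avgE ρ S) =
          LinearMap.trace ℂ _ (ρ (h ^ k) * avgE ρ R) := by
      intro R hR0 S hS k hk
      subst hS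
      rw [trace_mul_avgE, trace_mul_avgE, hρ, hTsum R hR0 (fun x => (χ : G → ℂ) (h ^ k * x)), hTcard R hR0,
        Finset.sum_congr rfl fun (a : R) _ => Finset.sum_congr rfl fun (b : P1) _ =>
          hval χ k hk a (hP0le (hR0 a.2)) b b.2]
      simp only [Finset.sum_const, Finset.card_univ, nsmul_eq_mul, ← Finset.mul_sum,
        ← Nat.card_eq_fintype_card]
      field_simp
    have hndvd : ∀ k, 0 < k → k < r → ¬ r ∣ k := fun k hk hk' => Nat.not_dvd_of_pos_of_lt hk hk'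
    have hprodP : ∏ i, μP i = 1 := by
      rw [prod_eq_of_power_sums' hrodd μP μA hμP hμA fun k hk hk' => ?_, hdet μA lA hμA hlA hlA2]
      rw [← htP k, ← htA k]
      exact htrT P0 le_rfl P hTtop.symm k (hndvd k hk hk')
    have hprodQ : (∏ i, μP i) * ∏ i, μE i = 1 := by
      have := prod_eq_of_power_sums' hrodd (Sum.elim μP μE) μB
        (fun i => by rcases i with i | i; exacts [hμP i, hμE i]) hμB fun k hk hk' => by
          rw [Fintype.sum_sum_type]
          simp only [Sum.elim_inl, Sum.elim_inr]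
          rw [← htP k, ← htE k, ← htB k, ← map_add, ← mul_add, add_sub_cancel]
          exact htrT Q0 hQ0 QQ hQQ k (hndvd k hk hk')
      rw [Fintype.prod_sum_type] at this
      simp only [Sum.elim_inl, Sum.elim_inr] at this
      rw [this, hdet μB lB hμB hlB hlB2]
    rw [hprodP, one_mul] at hprodQ
    have hdim : ∀ (R : Subgroup G), R ≤ P → ∀ [Fintype R], LinearMap.trace ℂ _ (avgE ρ R) =
        (χ : G → ℂ) c.s + (c.q : ℂ) / (Nat.card R : ℂ) := fun R hR _ => by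
      rw [trace_avgE, hρ, c.sum_fixed hχ R hR]
    have hnE1 : nE = 1 := by
      rw [map_sub, hdim QQ hQQle, hdim P le_rfl, hQQcard, show (Nat.card P : ℂ) = (c.q : ℂ) from rfl] at hnE
      have : (nE : ℂ) = (1 : ℕ) := by
        rw [← hnE]; field_simp; push_cast; ring
      exact_mod_cast this
    subst hnE1
    have hE1 : LinearMap.trace ℂ _ (ρ h * (avgE ρ QQ - avgE ρ P)) = 1 := by
      rw [← pow_one h, htE 1, Fin.sum_univ_one, pow_one]
      simpa using hprodQ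
    rw [hdim P le_rfl, show (Nat.card P : ℂ) = (c.q : ℂ) from rfl, div_self hq0] at hnP
    have hP1q : (c.q : ℂ) / (Nat.card P1 : ℂ) = (Nat.card P0 : ℂ) := by
      have h1 := hTcard P0 le_rfl
      simp only [hTtop] at h1
      rw [show (c.q : ℂ) = (Nat.card P : ℂ) from rfl, h1]
      field_simp
    rw [hdim P1 hP1le, hP1q] at hnψ
    have hsumP : ∑ a : P, (χ : G → ℂ) (h * (a : G)) = (c.q : ℂ) * ∑ i, μP i := by
      have := htP 1
      rw [pow_one, trace_mul_avgE, hρ, show (Nat.card P : ℂ) = (c.q : ℂ) from rfl,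
        inv_mul_eq_iff_eq_mul₀ hq0] at this
      simpa using this
    refine ⟨∑ i, μP i, ∑ i, μψ i, hsumP, ?_, ?_, ?_, ?_, fun he => ?_, fun he => ?_, ?_⟩
    · have := hE1
      rw [mul_sub, map_sub, trace_mul_avgE, trace_mul_avgE, hρ, hsumP,
        show (Nat.card P : ℂ) = (c.q : ℂ) from rfl, hQQcard] at this
      field_simp at this
      linear_combination (norm := ring_nf) (1 / 2 : ℂ) * this
    · have := htψ 1
      rw [pow_one, trace_mul_avgE, hρ, inv_mul_eq_iff_eq_mul₀ hP1card] at this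
      simpa using this
    · rw [hnP, Complex.re_sum, Complex.natCast_re]
      calc ∑ i, (μP i).re ≤ ∑ _i : Fin nP, (1 : ℝ) := Finset.sum_le_sum fun i _ =>
            (Complex.re_le_norm _).trans (root_of_unity_norm hr.ne_zero (hμP i)).le
        _ = _ := by simp
    · rw [hnψ, Complex.re_sum, Complex.natCast_re]
      calc ∑ i, (μψ i).re ≤ ∑ _i : Fin nψ, (1 : ℝ) := Finset.sum_le_sum fun i _ =>
            (Complex.re_le_norm _).trans (root_of_unity_norm hr.ne_zero (hμψ i)).le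
        _ = _ := by simp
    · rw [hnP] at he ⊢
      simp [all_one_of_re hr.ne_zero μP hμP (by simpa using he)]
    · rw [hnψ] at he ⊢
      simp [all_one_of_re hr.ne_zero μψ hμψ (by simpa using he)]
    · have := htψ 1
      rw [pow_one, trace_mul_avgE, hρ, Finset.sum_congr rfl fun (b : P1) _ => by
        rw [← one_mul (b : G), ← pow_one h, hval χ 1 hk1 1 (one_mem _) b b.2, pow_one, mul_one],
        Finset.sum_const, Finset.card_univ, nsmul_eq_mul, ← Nat.card_eq_fintype_card, ← mul_assoc,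
        inv_mul_cancel₀ hP1card, one_mul] at this
      simpa using this.symm
  choose! τ ψ hS1 hS2 hS3 hτle hψle hτeq hψeq hψv using hτ
  -- singular products
  have hsing : ∀ a ∈ P, a ∉ P1 → ∀ χ : IrrCharacter G, ∃ v : G, 2 ∣ orderOf v ∧
      (∀ η : IrrCharacter G, (η : G → ℂ) (h * a) = (η : G → ℂ) v) := by
    intro a ha haP1 χ
    obtain ⟨a0, ha0, b, hb, rfl⟩ := hdecomp a ha
    have ha01 : a0 ≠ 1 := fun e => haP1 (by rw [e, one_mul]; exact hb)
    refine ⟨a0 * h, c.dvd_two_of_mem (hP0le ha0) ha01 (by simpa using hreg 1)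
      (mul_inv_eq_iff_eq_mul.1 ((hfix (hP0le ha0)).1 ha0)).symm, fun η => ?_⟩
    have := hval η 1 hk1 a0 (hP0le ha0) b hb
    rw [pow_one] at this
    rw [this, char_mul_comm (irr_isCharacter η.2)]
  have hsum_sing : ∀ R : Subgroup G, R ≤ P → P1 ≤ R → ∀ [Fintype R],
      ∑ χ ∈ SB M G, (χ : G → ℂ) 1 * (∑ a : P, ((χ : G → ℂ) (h * (a : G)) - (χ : G → ℂ) c.s) -
        ∑ a : R, ((χ : G → ℂ) (h * (a : G)) - (χ : G → ℂ) c.s)) = 0 := by
    intro R hR hP1R _
    obtain ⟨D, hD⟩ : ∃ D : Finset G, D = (Finset.univ.filter fun a : G => a ∈ P ∧ a ∉ R) := ⟨_, rfl⟩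
    have he : ∀ F : G → ℂ, ∑ a : P, F (a : G) - ∑ a : R, F (a : G) = ∑ a ∈ D, F a := by
      intro F
      have hsubset : (Finset.univ.filter fun a : G => a ∈ R) ⊆ Finset.univ.filter fun a : G => a ∈ P :=
        fun x hx => Finset.mem_filter.2 ⟨Finset.mem_univ _, hR (Finset.mem_filter.1 hx).2⟩
      rw [← Finset.sum_subtype (Finset.univ.filter fun a : G => a ∈ P) (by simp) F,
        ← Finset.sum_subtype (Finset.univ.filter fun a : G => a ∈ R) (by simp) F,
        ← Finset.sum_sdiff hsubset, add_sub_cancel_right, hD]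
      refine Finset.sum_congr ?_ fun _ _ => rfl
      ext x
      simp
    rw [Finset.sum_congr rfl fun χ _ => by
      rw [he fun a => (χ : G → ℂ) (h * a) - (χ : G → ℂ) c.s, Finset.mul_sum], Finset.sum_comm]
    refine Finset.sum_eq_zero fun a ha => ?_
    rw [hD, Finset.mem_filter] at ha
    obtain ⟨v, hv, hvη⟩ := hsing a ha.2.1 (fun e => ha.2.2 (hP1R e)) (oneI G)
    simp only [mul_sub, Finset.sum_sub_distrib, hvη, c.sum_degree_singular hv, c.sum_degree_s,
      sub_self]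
  choose d hd using fun χ : IrrCharacter G => charOne_eq_natCast (irr_isCharacter χ.2)
  have hdpos : ∀ χ : IrrCharacter G, (0 : ℝ) < d χ := fun χ => by
    have : d χ ≠ 0 := fun e => irr_one_ne_zero χ.2 (by rw [hd, e, Nat.cast_zero])
    positivity
  have hforce : ∀ (X Y : IrrCharacter G → ℂ),
      ∑ χ ∈ SB M G, (χ : G → ℂ) 1 * (X χ - Y χ) = 0 →
      (∀ χ ∈ SB M G, (X χ).re ≤ (Y χ).re) → ∀ χ ∈ SB M G, (X χ).re = (Y χ).re := by
    intro X Y h0 hle χ hχ
    have h1 : ∑ χ ∈ SB M G, (d χ : ℝ) * ((Y χ).re - (X χ).re) = 0 := by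
      have h2 := congrArg Complex.re h0
      rw [Complex.re_sum, Complex.zero_re] at h2
      rw [← neg_eq_zero, ← h2, ← Finset.sum_neg_distrib]
      refine Finset.sum_congr rfl fun η _ => ?_
      rw [hd, Complex.mul_re, Complex.natCast_re, Complex.natCast_im, Complex.sub_re]
      ring
    have h3 := (Finset.sum_eq_zero_iff_of_nonneg fun η hη =>
      mul_nonneg (hdpos η).le (sub_nonneg.2 (hle η hη))).1 h1 χ hχ
    have := (mul_eq_zero.1 h3).resolve_left (hdpos χ).ne'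
    linarith
  have hτ1 : ∀ χ ∈ SB M G, τ χ = (χ : G → ℂ) c.s + 1 := by
    have h1 := hsum_sing QQ hQQle (fun b hb => hQQ ▸ (⟨1, one_mem _, b, hb, (one_mul b).symm⟩ :
      b ∈ T Q0 (hQ0.trans hP0le)))
    have h2 : ∑ χ ∈ SB M G, (χ : G → ℂ) 1 * (τ χ - ((χ : G → ℂ) c.s + 1)) = 0 := by
      have h3 : (c.q : ℂ) / 2 * ∑ χ ∈ SB M G, (χ : G → ℂ) 1 * (τ χ - ((χ : G → ℂ) c.s + 1)) = 0 := by
        rw [← h1, Finset.mul_sum]
        refine Finset.sum_congr rfl fun χ hχ => ?_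
        simp only [Finset.sum_sub_distrib, hS1 χ hχ, hS2 χ hχ, Finset.sum_const, Finset.card_univ,
          nsmul_eq_mul, ← Nat.card_eq_fintype_card, hQQcard,
          show (Nat.card P : ℂ) = (c.q : ℂ) from rfl]
        ring
      exact (mul_eq_zero.1 h3).resolve_left (by simp [c.q_ne])
    exact fun χ hχ => hτeq χ hχ (hforce τ _ h2 hτle χ hχ)
  have hqq : (c.q : ℂ) = (Nat.card P0 : ℂ) * (Nat.card P1 : ℂ) := by
    have h1 := hTcard P0 le_rfl
    simp only [hTtop] at h1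
    exact h1
  have hψ1 : ∀ χ ∈ SB M G, (χ : G → ℂ) h = (χ : G → ℂ) c.s + Nat.card P0 := by
    have h1 := hsum_sing P1 hP1le le_rfl
    have h2 : ∑ χ ∈ SB M G, (χ : G → ℂ) 1 * (ψ χ - ((χ : G → ℂ) c.s + Nat.card P0)) = 0 := by
      have h3 : (Nat.card P1 : ℂ) * ∑ χ ∈ SB M G, (χ : G → ℂ) 1 * (ψ χ - ((χ : G → ℂ) c.s + Nat.card P0)) = -0 := by
        rw [← h1, Finset.mul_sum, ← Finset.sum_neg_distrib]
        refine Finset.sum_congr rfl fun χ hχ => ?_
        simp only [Finset.sum_sub_distrib, hS1 χ hχ, hS3 χ hχ, hτ1 χ hχ, Finset.sum_const,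
          Finset.card_univ, nsmul_eq_mul, ← Nat.card_eq_fintype_card,
          show (Nat.card P : ℂ) = (c.q : ℂ) from rfl, hqq]
        ring
      rw [neg_zero] at h3
      exact (mul_eq_zero.1 h3).resolve_left hP1card
    exact fun χ hχ => (hψv χ hχ).symm.trans (hψeq χ hχ (hforce ψ _ h2 hψle χ hχ))
  have h1 := c.sum_value_regular (x := h) (by simpa using hreg 1)
  have h2 := c.sum_value_regular (x := (1 : G)) (by simp)
  have h3 : ((c.q : ℂ) - Nat.card P0) * ∑ χ ∈ SB M G, (χ : G → ℂ) c.s = 0 := by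
    rw [Finset.mul_sum, ← sub_self (-1 : ℂ)]
    conv_rhs => arg 1; rw [← h2]
    conv_rhs => arg 2; rw [← h1]
    rw [← Finset.sum_sub_distrib]
    refine Finset.sum_congr rfl fun χ hχ => ?_
    rw [hψ1 χ hχ, c.degree_eq hχ]
    ring
  rcases mul_eq_zero.1 h3 with h4 | h4
  · rw [sub_eq_zero] at h4
    have hcard : Nat.card P0 = Nat.card P := by exact_mod_cast h4.symm
    have hall : P0 = P := Subgroup.eq_of_le_of_card_ge hP0le hcard.ge
    have hhP : h ∈ Subgroup.centralizer (P : Set G) := Subgroup.mem_centralizer_iff.2 fun a ha =>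
      (mul_inv_eq_iff_eq_mul.1 ((hfix ha).1 (hall ▸ ha))).symm
    rw [c.cent_eq] at hhP
    have := c.orderOf_P hhP fun e => by rw [e, orderOf_one] at hord; exact hr.ne_one hord.symm
    exact hr2 (hord.symm.trans this)
  · exact c.sum_value_ne_zero h4

/-- The centralizer of the involution in the normalizer is the Sylow subgroup. -/
theorem normalizer_cent {g : G} (hn : g ∈ Subgroup.normalizer ((c.P : Subgroup G) : Set G))
    (hs : Commute g c.s) : g ∈ (c.P : Subgroup G) := by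
  classical
  haveI : Fact (Nat.Prime 2) := ⟨Nat.prime_two⟩
  set y := preg 2 g with hy
  obtain ⟨hx, hyreg, hyg⟩ := preg_spec Nat.prime_two g
  have hyz : y ∈ Subgroup.zpowers g :=
    preg_mem_zpowers Nat.prime_two g (K := Subgroup.zpowers g) (Subgroup.mem_zpowers g)
  obtain ⟨i, hi⟩ := Subgroup.mem_zpowers_iff.1 hyz
  have hy1 : y = 1 := by
    by_contra hne
    obtain ⟨r, hr, hrd⟩ := Nat.exists_prime_and_dvd (fun e => hne (orderOf_eq_one_iff.1 e))
    have hr2 : r ≠ 2 := fun e => by subst e; exact hyreg hrd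
    refine c.no_prime_order hr hr2 (h := y ^ (orderOf y / r)) ?_ ?_ ?_
    · exact orderOf_pow_orderOf_div (orderOf_pos y).ne' hrd
    · exact pow_mem (hi ▸ zpow_mem hn i) _
    · exact (hi ▸ hs.zpow_left i : Commute y c.s).pow_left _
  obtain ⟨w, hw, -, ⟨j, hj⟩, -⟩ := hx
  rw [← hy, hy1, inv_one, mul_one] at hj
  have h := c.P.isPGroup'.to_sup_of_normal_left' (isPGroup_of_ppower Nat.prime_two ⟨j, hj⟩)
    (Subgroup.zpowers_le.2 hn)
  have e := c.P.is_maximal' h le_sup_left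
  rw [← e]
  exact Subgroup.mem_sup_right (Subgroup.mem_zpowers g)

end Ctx

end Cfsg.Agent.Char.ConstDrop
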