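import Cfsg.Agent.Lib.Char.Basic
import Cfsg.Agent.Lib.Char.Linear

/-!
# Characters afforded by idempotents commuting with a representation
-/

set_option autoImplicit false
set_option linter.unusedSectionVars false

namespace Cfsg.Agent.Char.ConstDrop

open Cfsg Module
open scoped ComplexConjugate

universe u

variable {G : Type u} [Group G] [Fintype G] {V : Type*} [AddCommGroup V] [Module ℂ V]
  [FiniteDimensional ℂ V]

/-- An idempotent commuting with a subgroup affords a character of it. -/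
theorem proj_char (ρ : Representation ℂ G V) (E : Module.End ℂ V) (hE : E * E = E)
    (H : Subgroup G) (hc : ∀ h ∈ H, ρ h * E = E * ρ h) :
    IsCharacter H (fun h : H => LinearMap.trace ℂ V (ρ (h : G) * E)) := by
  classical
  set W : Submodule ℂ V := LinearMap.range E
  have hid : ∀ w ∈ W, E w = w := by
    rintro _ ⟨v, rfl⟩
    rw [← Module.End.mul_apply, hE]
  have hmem : ∀ h ∈ H, ∀ w ∈ W, ρ h w ∈ W := by
    intro h hh w hw
    refine ⟨ρ h w, ?_⟩
    rw [← Module.End.mul_apply, ← hc h hh, Module.End.mul_apply, hid w hw]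
  let σ : Representation ℂ H W :=
    { toFun := fun h => (ρ (h : G)).restrict (hmem h h.2)
      map_one' := by ext w; simp
      map_mul' := fun a b => by ext w; simp }
  have e : σ.character = fun h : H => LinearMap.trace ℂ V (ρ (h : G) * E) := by
    funext h
    have hall : ∀ v, (ρ (h : G) * E) v ∈ W := fun v => by
      rw [hc _ h.2]; exact ⟨_, rfl⟩
    rw [← LinearMap.trace_restrict_eq_of_forall_mem W (ρ (h : G) * E) hall]
    show LinearMap.trace ℂ W ((ρ (h : G)).restrict (hmem h h.2)) = _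
    congr 1
    ext w
    simp [hid w.1 w.2]
  exact e ▸ isCharacter_character σ

/-- The trace of an idempotent is a natural number. -/
theorem proj_nat (E : Module.End ℂ V) (hE : E * E = E) :
    ∃ n : ℕ, LinearMap.trace ℂ V E = (n : ℂ) := by
  have hp : LinearMap.IsProj (LinearMap.range E) E :=
    ⟨fun v => ⟨v, rfl⟩, fun w hw => by
      obtain ⟨v, rfl⟩ := hw
      rw [← Module.End.mul_apply, hE]⟩
  exact ⟨_, hp.trace⟩

/-- The average of a subgroup. -/
noncomputable def avgE (ρ : Representation ℂ G V) (R : Subgroup G) : Module.End ℂ V :=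
  haveI := Fintype.ofFinite R
  (Nat.card R : ℂ)⁻¹ • ∑ a : R, ρ (a : G)

variable (ρ : Representation ℂ G V)

open scoped Classical in
theorem avgE_eq (R : Subgroup G) [Fintype R] :
    avgE ρ R = (Nat.card R : ℂ)⁻¹ • ∑ a : R, ρ (a : G) := by
  unfold avgE
  congr 1
  exact Finset.sum_congr (by ext; simp) fun _ _ => rfl

theorem avgE_bot : avgE ρ (⊥ : Subgroup G) = 1 := by
  classical
  rw [avgE_eq, Fintype.sum_subsingleton _ (1 : (⊥ : Subgroup G))]
  simp

theorem mul_avgE_of_mem (R : Subgroup G) {a : G} (ha : a ∈ R) :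
    ρ a * avgE ρ R = avgE ρ R := by
  classical
  rw [avgE_eq, mul_smul_comm, Finset.mul_sum]
  congr 1
  exact Fintype.sum_equiv (Equiv.mulLeft (⟨a, ha⟩ : R)) _ _ fun b => by simp

theorem avgE_mul_of_mem (R : Subgroup G) {a : G} (ha : a ∈ R) :
    avgE ρ R * ρ a = avgE ρ R := by
  classical
  rw [avgE_eq, smul_mul_assoc, Finset.sum_mul]
  congr 1
  exact Fintype.sum_equiv (Equiv.mulRight (⟨a, ha⟩ : R)) _ _ fun b => by simp

/-- The average of a larger subgroup absorbs. -/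
theorem avgE_mul_of_le {R S : Subgroup G} (h : R ≤ S) : avgE ρ R * avgE ρ S = avgE ρ S := by
  classical
  rw [avgE_eq ρ R, smul_mul_assoc, Finset.sum_mul,
    Finset.sum_congr rfl fun (a : R) _ => mul_avgE_of_mem ρ S (h a.2), Finset.sum_const,
    Finset.card_univ, ← Nat.card_eq_fintype_card, ← Nat.cast_smul_eq_nsmul ℂ, smul_smul,
    inv_mul_cancel₀ (Nat.cast_ne_zero.mpr Nat.card_pos.ne'), one_smul]

theorem avgE_mul_of_ge {R S : Subgroup G} (h : R ≤ S) : avgE ρ S * avgE ρ R = avgE ρ S := by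
  classical
  rw [avgE_eq ρ R, mul_smul_comm, Finset.mul_sum,
    Finset.sum_congr rfl fun (a : R) _ => avgE_mul_of_mem ρ S (h a.2), Finset.sum_const,
    Finset.card_univ, ← Nat.card_eq_fintype_card, ← Nat.cast_smul_eq_nsmul ℂ, smul_smul,
    inv_mul_cancel₀ (Nat.cast_ne_zero.mpr Nat.card_pos.ne'), one_smul]

theorem avgE_sq (R : Subgroup G) : avgE ρ R * avgE ρ R = avgE ρ R := avgE_mul_of_le ρ le_rfl

theorem avgE_comm (R : Subgroup G) {g : G} (hg : g ∈ Subgroup.normalizer (R : Set G)) :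
    ρ g * avgE ρ R = avgE ρ R * ρ g := by
  classical
  rw [avgE_eq, mul_smul_comm, smul_mul_assoc, Finset.mul_sum, Finset.sum_mul]
  congr 1
  refine Finset.sum_bij (fun a _ => (⟨g * a * g⁻¹, (Subgroup.mem_normalizer_iff.1 hg _).1 a.2⟩ : R))
    (fun _ _ => Finset.mem_univ _) (fun a _ b _ h => ?_) (fun b _ => ?_) (fun a _ => ?_)
  · exact Subtype.ext (mul_left_cancel (mul_right_cancel (congrArg Subtype.val h)))
  · exact ⟨⟨g⁻¹ * b * g, (Subgroup.mem_normalizer_iff''.1 hg _).1 b.2⟩, Finset.mem_univ _,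
      Subtype.ext (by group)⟩
  · rw [← map_mul, ← map_mul]
    exact congrArg ρ (inv_mul_cancel_right _ g).symm

theorem avgE_avgE_comm (R S : Subgroup G) (h : R ≤ Subgroup.normalizer (S : Set G)) :
    avgE ρ R * avgE ρ S = avgE ρ S * avgE ρ R := by
  classical
  rw [avgE_eq ρ R, smul_mul_assoc, mul_smul_comm, Finset.sum_mul, Finset.mul_sum]
  congr 1
  exact Finset.sum_congr rfl fun a _ => avgE_comm ρ S (h a.2)

theorem trace_mul_avgE (g : G) (R : Subgroup G) [Fintype R] :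
    LinearMap.trace ℂ V (ρ g * avgE ρ R) =
      (Nat.card R : ℂ)⁻¹ * ∑ a : R, ρ.character (g * (a : G)) := by
  classical
  rw [avgE_eq, mul_smul_comm, map_smul, Finset.mul_sum, map_sum, smul_eq_mul]
  simp [Representation.character]

theorem trace_avgE (R : Subgroup G) [Fintype R] :
    LinearMap.trace ℂ V (avgE ρ R) = (Nat.card R : ℂ)⁻¹ * ∑ a : R, ρ.character (a : G) := by
  simpa using trace_mul_avgE ρ 1 R

theorem trace_avgE_avgE (R S : Subgroup G) [Fintype R] [Fintype S] :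
    LinearMap.trace ℂ V (avgE ρ R * avgE ρ S) =
      (Nat.card R : ℂ)⁻¹ * (Nat.card S : ℂ)⁻¹ * ∑ a : R, ∑ c : S, ρ.character ((a : G) * c) := by
  classical
  rw [avgE_eq ρ R, smul_mul_assoc, Finset.sum_mul, map_smul, map_sum, smul_eq_mul, mul_assoc,
    Finset.mul_sum (a := (Nat.card S : ℂ)⁻¹)]
  congr 1
  exact Finset.sum_congr rfl fun a _ => trace_mul_avgE ρ (a : G) S

/-- Differences of nested idempotents are idempotents. -/
theorem sub_idem {A B : Module.End ℂ V} (hA : A * A = A) (hB : B * B = B) (h1 : A * B = B)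
    (h2 : B * A = B) : (A - B) * (A - B) = A - B := by
  rw [sub_mul, mul_sub, mul_sub, hA, hB, h1, h2, sub_self, sub_zero]

theorem mul_idem {A B : Module.End ℂ V} (hA : A * A = A) (hB : B * B = B) (h : A * B = B * A) :
    (A * B) * (A * B) = A * B := by
  rw [mul_assoc, ← mul_assoc B A B, ← h, mul_assoc A B B, hB, ← mul_assoc, hA]

/-- Multiplicities of roots of unity from power sums. -/
theorem mult_of_power_sums {X : Type*} [Fintype X] {r : ℕ} {ω : ℂ} (hω : IsPrimitiveRoot ω r)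
    (hr : 0 < r) (θ : X → ℂ) (c : X → Fin r) (hc : ∀ i, ω ^ (c i : ℕ) = θ i) (j : Fin r) :
    (r : ℂ) * ((Finset.univ.filter fun i => c i = j).card : ℂ) =
      ∑ k : Fin r, (ω ^ (j : ℕ))⁻¹ ^ (k : ℕ) * ∑ i, θ i ^ (k : ℕ) := by
  classical
  have hω0 : ω ≠ 0 := hω.ne_zero hr.ne'
  simp only [Finset.mul_sum, ← mul_pow]
  rw [Finset.sum_comm, Finset.natCast_card_filter, Finset.mul_sum]
  refine Finset.sum_congr rfl fun i _ => ?_
  by_cases hij : c i = j
  · rw [if_pos hij, ← hc i, hij, inv_mul_cancel₀ (pow_ne_zero _ hω0)]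
    simp
  · rw [if_neg hij, mul_zero]
    set z := (ω ^ (j : ℕ))⁻¹ * θ i with hz
    have hz1 : z ≠ 1 := fun e => hij (Fin.ext (hω.pow_inj (c i).2 j.2 (by
      rw [hc i]
      exact (mul_left_cancel₀ (inv_ne_zero (pow_ne_zero _ hω0))
        ((inv_mul_cancel₀ (pow_ne_zero _ hω0)).trans e.symm)).symm)))
    have hzr : z ^ r = 1 := by
      rw [hz, mul_pow, inv_pow, ← hc i, ← pow_mul, ← pow_mul, mul_comm (j : ℕ), mul_comm (c i : ℕ),
        pow_mul, pow_mul, hω.pow_eq_one, one_pow, one_pow, inv_one, one_mul]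
    rw [Fin.sum_univ_eq_sum_range fun k => z ^ k, geom_sum_eq hz1, hzr, sub_self, zero_div]

/-- Products from multiplicities. -/
theorem prod_of_mult {X : Type*} [Fintype X] {r : ℕ} {ω : ℂ}
    (θ : X → ℂ) (d : X → Fin r) (hd : ∀ i, ω ^ (d i : ℕ) = θ i) :
    ∏ i, θ i = ∏ j : Fin r, (ω ^ (j : ℕ)) ^ (Finset.univ.filter fun i => d i = j).card := by
  classical
  rw [← Finset.prod_fiberwise_of_maps_to (g := d) (fun i _ => Finset.mem_univ _)]
  refine Finset.prod_congr rfl fun j _ => ?_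
  rw [Finset.prod_congr rfl (g := fun _ => ω ^ (j : ℕ)) fun i hi => by
    rw [← hd i, (Finset.mem_filter.1 hi).2], Finset.prod_const]

/-- Roots of unity of odd prime order: lists with the same power sums have the same product. -/
theorem prod_eq_of_power_sums {ι κ : Type*} [Fintype ι] [Fintype κ] {r : ℕ} (hr : Odd r)
    (μ : ι → ℂ) (ν : κ → ℂ) (hμ : ∀ i, μ i ^ r = 1) (hν : ∀ i, ν i ^ r = 1)
    (h : ∀ k, 0 < k → k < r → ∑ i, μ i ^ k = ∑ i, ν i ^ k)
    (hle : Fintype.card κ ≤ Fintype.card ι) : ∏ i, μ i = ∏ i, ν i := by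
  classical
  obtain ⟨ω, hω⟩ : ∃ ω : ℂ, IsPrimitiveRoot ω r := ⟨_, Complex.isPrimitiveRoot_exp r hr.pos.ne'⟩
  have hr0 : NeZero r := ⟨hr.pos.ne'⟩
  have hexμ : ∀ i, ∃ j : Fin r, ω ^ (j : ℕ) = μ i := fun i => by
    obtain ⟨j, hj, hj'⟩ := hω.eq_pow_of_pow_eq_one (hμ i)
    exact ⟨⟨j, hj⟩, hj'⟩
  have hexν : ∀ i, ∃ j : Fin r, ω ^ (j : ℕ) = ν i := fun i => by
    obtain ⟨j, hj, hj'⟩ := hω.eq_pow_of_pow_eq_one (hν i)
    exact ⟨⟨j, hj⟩, hj'⟩
  choose a ha using hexμ
  choose b hb using hexν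
  obtain ⟨m, hm⟩ : ∃ m : Fin r → ℕ, ∀ j, m j = (Finset.univ.filter fun i => a i = j).card :=
    ⟨_, fun _ => rfl⟩
  obtain ⟨n, hn⟩ : ∃ n : Fin r → ℕ, ∀ j, n j = (Finset.univ.filter fun i => b i = j).card :=
    ⟨_, fun _ => rfl⟩
  have hω0 : ω ≠ 0 := hω.ne_zero hr.pos.ne'
  have hdiff : ∀ j, (r : ℂ) * (m j : ℂ) - (r : ℂ) * (n j : ℂ) =
      (Fintype.card ι : ℂ) - Fintype.card κ := by
    intro j
    rw [hm, hn, mult_of_power_sums hω hr.pos μ a ha j, mult_of_power_sums hω hr.pos ν b hb j, ← Finset.sum_sub_distrib,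
      Finset.sum_eq_single (⟨0, hr.pos⟩ : Fin r) (fun k _ hk => ?_) (by simp)]
    · simp
    · rw [h k (Nat.pos_of_ne_zero fun e => hk (Fin.ext e)) k.2, sub_self]
  obtain ⟨c, hc⟩ : ∃ c : ℕ, ∀ j, m j = n j + c := by
    refine ⟨m ⟨0, hr.pos⟩ - n ⟨0, hr.pos⟩, fun j => ?_⟩
    have h0 := hdiff ⟨0, hr.pos⟩
    have hj := hdiff j
    rw [← Nat.cast_sub hle, sub_eq_iff_eq_add, ← Nat.cast_mul, ← Nat.cast_mul, ← Nat.cast_add,
      Nat.cast_inj] at h0 hj
    have h1 : n ⟨0, hr.pos⟩ ≤ m ⟨0, hr.pos⟩ :=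
      Nat.le_of_mul_le_mul_left (h0.symm ▸ Nat.le_add_left _ _) hr.pos
    refine Nat.eq_of_mul_eq_mul_left hr.pos ?_
    rw [mul_add, Nat.mul_sub, hj, h0]
    omega
  rw [prod_of_mult μ a ha, prod_of_mult ν b hb]
  simp only [← hm, ← hn, hc, pow_add, Finset.prod_mul_distrib, Finset.prod_pow]
  rw [Finset.prod_pow_eq_pow_sum, Fin.sum_univ_eq_sum_range fun k => k, Finset.sum_range_id]
  obtain ⟨t, ht⟩ := hr
  rw [show r * (r - 1) / 2 = r * t by
    rw [ht, Nat.add_sub_cancel, show (2 * t + 1) * (2 * t) = 2 * ((2 * t + 1) * t) by ring,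
      Nat.mul_div_cancel_left _ two_pos], pow_mul, hω.pow_eq_one, one_pow, one_pow, mul_one]

end Cfsg.Agent.Char.ConstDrop
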