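import Cfsg.Agent.Lib.Char.ConstantDrop.Basic

/-!
# A constant drop forces one class of involutions and determines the constant
-/

set_option autoImplicit false
set_option linter.unusedSectionVars false
set_option linter.style.haveILetI false

namespace Cfsg.Agent.Char.ConstDrop

open Cfsg Module
open scoped ComplexConjugate

universe u

variable {G : Type u} [Group G] [Fintype G] {M : Ideal AlgInt}

/-- The drop from the degree to the value at `u` is constant on the nontrivial members of the block. -/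
def Drop (M : Ideal AlgInt) (u : G) (k : ℂ) : Prop :=
  ∀ χ ∈ SB M G, (χ : G → ℂ) 1 - (χ : G → ℂ) u = k

/-- In a group without odd core the block is faithful. -/
theorem eq_one_of_ker (hM : IsPModular 2 M) (hO : oddCore G = ⊥) {x : G}
    (h : ∀ χ ∈ PB M G, (χ : G → ℂ) x = (χ : G → ℂ) 1) : x = 1 := by
  haveI := blockKerSub_normal (principalBlock M G)
  have hle : blockKerSub (principalBlock M G) ≤ oddCore G :=
    Fusion.le_pPrimeCore (Nat.coprime_comm.1 (Nat.prime_two.coprime_iff_not_dvd.2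
      (not_dvd_card_blockKerSub hM (isPBlock_principalBlock M))))
  rw [hO] at hle
  exact Subgroup.mem_bot.1 (hle (show x ∈ blockKerSub (principalBlock M G) from
    fun χ hχ => h χ (mem_PB.2 hχ)))

theorem drop_ne_zero (hM : IsPModular 2 M) (hO : oddCore G = ⊥) {u : G} (hu : u ≠ 1) {k : ℂ}
    (hk : Drop M u k) : k ≠ 0 := by
  rintro rfl
  refine hu (eq_one_of_ker hM hO fun χ hχ => ?_)
  by_cases h1 : (χ : G → ℂ) = fun _ => 1
  · rw [h1]
  · exact (sub_eq_zero.1 (hk χ (mem_SB.2 ⟨mem_PB.1 hχ, h1⟩))).symm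

theorem two_dvd_card (hO : oddCore G = ⊥) {u : G} (hu : u ≠ 1) : 2 ∣ Nat.card G := by
  by_contra h
  have h1 : (⊤ : Subgroup G) ≤ oddCore G := Fusion.le_pPrimeCore (by
    rw [Subgroup.card_top]
    exact Nat.coprime_comm.1 (Nat.prime_two.coprime_iff_not_dvd.2 h))
  rw [hO] at h1
  exact hu (Subgroup.mem_bot.1 (h1 (Subgroup.mem_top u)))

/-- The inner product of two columns when the values at `u` are degrees less the constant. -/
theorem sum_conj_column (hM : IsPModular 2 M) {u : G} {k : ℂ} (hk : Drop M u k) (f : IrrCharacter G → ℂ) :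
    ∑ χ ∈ PB M G, conj ((χ : G → ℂ) u) * f χ =
      (∑ χ ∈ PB M G, (χ : G → ℂ) 1 * f χ) - conj k * ∑ χ ∈ SB M G, f χ := by
  rw [sum_PB hM, sum_PB hM (fun χ => (χ : G → ℂ) 1 * f χ), Finset.mul_sum, add_sub_assoc,
    ← Finset.sum_sub_distrib]
  simp only [oneI_apply, map_one, add_right_inj]
  refine Finset.sum_congr rfl fun χ hχ => ?_
  obtain ⟨d, hd⟩ := charOne_eq_natCast (irr_isCharacter χ.2)
  have := hk χ hχ
  rw [sub_eq_iff_eq_add, ← sub_eq_iff_eq_add'] at this
  rw [← this, map_sub, hd, map_natCast]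
  ring

/-- `Φ` is one on singular elements outside the section of `u`. -/
theorem Phi_eq_one_of_off (hM : IsPModular 2 M) (hO : oddCore G = ⊥) {u : G} (hu : u ≠ 1) {k : ℂ}
    (hk : Drop M u k) {v : G} (hv : 2 ∣ orderOf v) (h : ¬ IsConj (ppt 2 v) (ppt 2 u)) :
    Phi M v = 1 := by
  have h1 := orth_sections hM h
  rw [sum_conj_column hM hk, orth_degree hM hv, zero_sub, neg_eq_zero, mul_eq_zero,
    map_eq_zero] at h1
  rw [Phi_eq hM, h1.resolve_left (drop_ne_zero hM hO hu hk), add_zero]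

/-- All nontrivial 2-elements are conjugate to the 2-part of `u`. -/
theorem isConj_ppt (hM : IsPModular 2 M) (hO : oddCore G = ⊥) {u : G} (hu : u ≠ 1) {k : ℂ}
    (hk : Drop M u k) {v : G} (hv : ∃ j : ℕ, orderOf v = 2 ^ j) (hv1 : v ≠ 1) :
    IsConj v (ppt 2 u) := by
  classical
  haveI : Fact (Nat.Prime 2) := ⟨Nat.prime_two⟩
  have hP := pmod_prime hM
  by_contra h
  obtain ⟨j, hj⟩ := hv
  have hj0 : j ≠ 0 := fun e => hv1 (orderOf_eq_one_iff.1 (by rw [hj, e, pow_zero]))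
  have hv2 : 2 ∣ orderOf v := hj ▸ dvd_pow_self 2 hj0
  have h1 := Phi_eq_one_of_off hM hO hu hk hv2 (by rwa [ppt_of_ppower Nat.prime_two ⟨j, hj⟩])
  obtain ⟨t, ht⟩ := exists_prime_orderOf_dvd_card' 2 (two_dvd_card hO hu)
  have h2 := Phi_even hM ht (x := (1 : G)) (by simp) (Commute.one_right t)
  have h3 := Phi_congr_one hM (v := v) ⟨j, hj⟩
  rw [h1] at h3
  exact memLI_one_iff hP (memLI_congr hP h3 h2)

/-- The basic consequences. -/
theorem section_facts (hM : IsPModular 2 M) (hO : oddCore G = ⊥) {u : G} (hu : u ≠ 1) {k : ℂ}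
    (hk : Drop M u k) :
    orderOf (ppt 2 u) = 2 ∧ 2 ∣ orderOf u ∧ (∀ v : G, orderOf v = 2 → IsConj v (ppt 2 u)) ∧
      ∀ v : G, (∃ j : ℕ, orderOf v = 2 ^ j) → v * v = 1 := by
  classical
  haveI : Fact (Nat.Prime 2) := ⟨Nat.prime_two⟩
  have key := fun v (hv : ∃ j : ℕ, orderOf v = 2 ^ j) (hv1 : v ≠ 1) =>
    isConj_ppt hM hO hu hk hv hv1
  obtain ⟨t, ht⟩ := exists_prime_orderOf_dvd_card' 2 (two_dvd_card hO hu)
  have ht' : ∃ j : ℕ, orderOf t = 2 ^ j := ⟨1, by rw [ht, pow_one]⟩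
  have ht1 : t ≠ 1 := fun e => by rw [e, orderOf_one] at ht; omega
  obtain ⟨c, hc⟩ := isConj_iff.1 (key t ht' ht1)
  have hs : orderOf (ppt 2 u) = 2 := by
    rw [← hc, ← MulAut.conj_apply, MulEquiv.orderOf_eq, ht]
  refine ⟨hs, ?_, fun v hv => key v ⟨1, by rw [hv, pow_one]⟩
    (fun e => by rw [e, orderOf_one] at hv; omega), fun v hv => ?_⟩
  · by_contra h
    rw [(ppt_eq_one_iff Nat.prime_two u).2 h, orderOf_one] at hs
    omega
  · by_cases hv1 : v = 1
    · rw [hv1, mul_one]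
    obtain ⟨c', hc'⟩ := isConj_iff.1 (key v hv hv1)
    have : orderOf v = 2 := by rw [← hs, ← hc', ← MulAut.conj_apply, MulEquiv.orderOf_eq]
    rw [← sq, ← this, pow_orderOf_eq_one]

/-- A rational multiple identity pins down an integral number. -/
theorem eq_natCast_of_mul_natCast {k : ℂ} (hk : IsIntegral ℤ k) {a b : ℕ} (hb : b ≠ 0)
    (h : k * (b : ℂ) = (a : ℂ)) : ∃ n : ℕ, k = (n : ℂ) := by
  have hbc : (b : ℂ) ≠ 0 := Nat.cast_ne_zero.2 hb
  have hk' : k = ((a / b : ℚ) : ℂ) := by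
    push_cast
    rw [← h, mul_div_cancel_right₀ _ hbc]
  have hint : IsIntegral ℤ ((a / b : ℚ)) := by
    refine (isIntegral_algHom_iff (Algebra.ofId ℚ ℂ |>.restrictScalars ℤ)
      (algebraMap ℚ ℂ).injective).1 ?_
    rw [hk'] at hk
    simpa using hk
  obtain ⟨z, hz⟩ := IsIntegrallyClosed.isIntegral_iff.1 hint
  have hz' : (z : ℚ) = (a : ℚ) / b := by simpa using hz
  have hz0 : 0 ≤ z := by
    have : (0 : ℚ) ≤ (z : ℚ) := hz' ▸ by positivity
    exact_mod_cast this
  refine ⟨z.toNat, ?_⟩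
  rw [hk', ← hz']
  push_cast
  exact_mod_cast (Int.toNat_of_nonneg hz0).symm

/-- The constant is the order of a Sylow 2-subgroup. -/
theorem drop_eq_card (hM : IsPModular 2 M) (hO : oddCore G = ⊥) {u : G} (hu : u ≠ 1) {k : ℂ}
    (hk : Drop M u k) (P : Sylow 2 G) : k = (Nat.card (P : Subgroup G) : ℂ) := by
  classical
  haveI : Fact (Nat.Prime 2) := ⟨Nat.prime_two⟩
  have hP := pmod_prime hM
  obtain ⟨hs, hu2, hone, -⟩ := section_facts hM hO hu hk
  obtain ⟨a, ha⟩ : ∃ a, a = (Nat.card G).factorization 2 := ⟨_, rfl⟩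
  obtain ⟨q, hq⟩ : ∃ q : ℕ, q = 2 ^ a := ⟨_, rfl⟩
  have hPq : Nat.card (P : Subgroup G) = q := by rw [P.card_eq_multiplicity, hq, ha]
  rw [hPq]
  -- degrees
  have hdeg : ∀ χ : IrrCharacter G, ∃ d : ℕ, (χ : G → ℂ) 1 = (d : ℂ) :=
    fun χ => charOne_eq_natCast (irr_isCharacter χ.2)
  choose d hd using hdeg
  have hSne : (SB M G).Nonempty := by
    rw [Finset.nonempty_iff_ne_empty]
    intro he
    refine hu (eq_one_of_ker hM hO fun χ hχ => ?_)
    by_cases h1 : (χ : G → ℂ) = fun _ => 1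
    · rw [h1]
    · exact absurd (he ▸ mem_SB.2 ⟨mem_PB.1 hχ, h1⟩) (Finset.notMem_empty χ)
  obtain ⟨D, hD⟩ : ∃ D : ℕ, D = ∑ χ ∈ SB M G, d χ := ⟨_, rfl⟩
  have hD0 : D ≠ 0 := fun h0 => by
    obtain ⟨χ, hχ⟩ := hSne
    have := (Finset.sum_eq_zero_iff.1 (hD.symm.trans h0)) χ hχ
    exact irr_one_ne_zero χ.2 (by rw [hd, this, Nat.cast_zero])
  obtain ⟨Q, hQ⟩ : ∃ Q : ℕ, Q = ∑ χ ∈ PB M G, d χ * d χ := ⟨_, rfl⟩
  -- the column of u against the degrees
  have hcol : conj k * (D : ℂ) = (Q : ℂ) := by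
    have h0 := orth_reg_sing hM hu2 (x := (1 : G)) (by simp)
    rw [show (∑ χ ∈ PB M G, (χ : G → ℂ) 1 * conj ((χ : G → ℂ) u)) =
      ∑ χ ∈ PB M G, conj ((χ : G → ℂ) u) * (χ : G → ℂ) 1 from
        Finset.sum_congr rfl fun χ _ => mul_comm _ _, sum_conj_column hM hk, sub_eq_zero] at h0
    rw [hQ, hD]
    push_cast
    simp only [← hd]
    exact h0.symm
  have hkint : IsIntegral ℤ k := by
    obtain ⟨χ, hχ⟩ := hSne
    rw [← hk χ hχ]
    exact (char_isIntegral (irr_isCharacter χ.2) _).sub (char_isIntegral (irr_isCharacter χ.2) _)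
  have hkD : k * (D : ℂ) = (Q : ℂ) := by
    have := congrArg conj hcol
    rwa [map_mul, Complex.conj_conj, map_natCast, map_natCast] at this
  obtain ⟨n, rfl⟩ := eq_natCast_of_mul_natCast hkint hD0 hkD
  have hkDn : n * D = Q := by exact_mod_cast hkD
  -- the sum of squares of the block is divisible by q
  have hqQ : q ∣ Q := by
    have hz : ∀ χ : IrrCharacter G, ∃ m : ℕ,
        ∑ x : (P : Subgroup G), (χ : G → ℂ) (x : G) = (q : ℂ) * (m : ℂ) := by
      intro χ
      obtain ⟨N, ρ, hρ⟩ := irr_isCharacter χ.2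
      obtain ⟨m, hm⟩ := proj_nat (avgE ρ (P : Subgroup G)) (avgE_sq ρ _)
      refine ⟨m, ?_⟩
      rw [trace_avgE, hPq, hρ] at hm
      rw [← hm, ← mul_assoc, mul_inv_cancel₀ (Nat.cast_ne_zero.2 (by rw [hq]; positivity)), one_mul]
    choose m hm using hz
    refine ⟨∑ χ ∈ PB M G, d χ * m χ, ?_⟩
    apply Nat.cast_injective (R := ℂ)
    have h1 : ∑ x : (P : Subgroup G), ∑ χ ∈ PB M G, (χ : G → ℂ) 1 * (χ : G → ℂ) (x : G) =
        (Q : ℂ) := by
      rw [Finset.sum_eq_single (1 : (P : Subgroup G)) (fun x _ hx => ?_) (by simp), hQ]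
      · push_cast
        exact Finset.sum_congr rfl fun χ _ => by rw [hd]
      · obtain ⟨j, hj⟩ := IsPGroup.iff_orderOf.1 P.isPGroup' x
        rw [← Subgroup.orderOf_coe] at hj
        refine orth_degree hM (hj ▸ dvd_pow_self 2 fun e => hx ?_)
        exact Subtype.ext (orderOf_eq_one_iff.1 (by rw [hj, e, pow_zero]))
    rw [← h1, Finset.sum_comm]
    simp only [← Finset.mul_sum, hm, hd]
    push_cast
    rw [Finset.mul_sum]
    exact Finset.sum_congr rfl fun χ _ => by ring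
  have hDodd : ¬ 2 ∣ D := by
    intro h2D
    obtain ⟨t, ht⟩ := exists_prime_orderOf_dvd_card' 2 (two_dvd_card hO hu)
    have h1 := Phi_even hM ht (x := (1 : G)) (by simp) (Commute.one_right t)
    rw [Phi_eq hM, show ∑ χ ∈ SB M G, (χ : G → ℂ) 1 = (D : ℂ) by
      rw [hD]; push_cast; simp only [hd]] at h1
    rw [show (1 : ℂ) + D = ((1 + D : ℕ) : ℂ) by push_cast; ring, memLI_natCast_iff hM] at h1
    omega
  have hqn : q ∣ n := by
    rw [← hkDn] at hqQ
    exact ((Nat.prime_two.coprime_iff_not_dvd.2 hDodd).pow_left a).dvd_of_dvd_mul_right (hq ▸ hqQ)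
      |> fun h => hq ▸ h
  -- projection onto the section
  have hall : ∀ χ : IrrCharacter G, ∑ v : G, conj ((χ : G → ℂ) v) =
      if χ = oneI G then (Nat.card G : ℂ) else 0 := by
    intro χ
    have h1 := irrC_orth (oneI G) χ
    rw [classInner, inv_mul_eq_iff_eq_mul₀ (Nat.cast_ne_zero.2 Nat.card_pos.ne')] at h1
    simp only [oneI_apply, one_mul] at h1
    rw [h1]
    by_cases h : χ = oneI G
    · rw [if_pos h, if_pos h.symm, mul_one]
    · rw [if_neg h, if_neg (Ne.symm h), mul_zero]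
  obtain ⟨R, hR⟩ : ∃ R : Finset G, R = Finset.univ.filter fun v : G => ¬ 2 ∣ orderOf v := ⟨_, rfl⟩
  have hregint : ∀ χ : IrrCharacter G, ∃ z : ℤ, (q : ℂ) * ∑ v ∈ R, (χ : G → ℂ) v =
      (Nat.card G : ℂ) * (z : ℂ) := by
    intro χ
    obtain ⟨z, hz⟩ := exists_int_pow_mul_einner Nat.prime_two (irr_isCharacter χ.2)
      (irr_isCharacter (oneI G).2)
    refine ⟨z, ?_⟩
    rw [← hz, einner_eq_sum, hq, ← ha, hR]
    simp only [oneI_apply, map_one, mul_one]
    push_cast
    field_simp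
  choose z hz using hregint
  have hkey : (n : ℂ) * ∑ v ∈ R, ∑ χ ∈ SB M G, (χ : G → ℂ) v = (Nat.card G : ℂ) := by
    have hsum : ∑ v : G, ∑ χ ∈ PB M G, conj ((χ : G → ℂ) v) * (χ : G → ℂ) u = (Nat.card G : ℂ) := by
      rw [Finset.sum_comm]
      simp only [← Finset.sum_mul, hall, ite_mul, zero_mul]
      rw [Finset.sum_ite_eq', if_pos (oneI_mem_PB hM), oneI_apply, mul_one]
    have hinner : ∀ v : G, ∑ χ ∈ PB M G, conj ((χ : G → ℂ) v) * (χ : G → ℂ) u =
        if 2 ∣ orderOf v then (n : ℂ) * (1 - conj (Phi M v)) else 0 := by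
      intro v
      split_ifs with hv
      rotate_left
      · rw [← orth_sing_reg hM hu2 hv]
        exact Finset.sum_congr rfl fun χ _ => mul_comm _ _
      · have e := congrArg conj (sum_conj_column hM hk fun χ => (χ : G → ℂ) v)
        rw [orth_degree hM hv, zero_sub, map_neg, map_mul, Complex.conj_conj,
          map_sum, map_sum] at e
        rw [Phi_eq hM, map_add, map_one, map_sum]
        rw [show ∑ χ ∈ PB M G, conj ((χ : G → ℂ) v) * (χ : G → ℂ) u =
          ∑ χ ∈ PB M G, conj (conj ((χ : G → ℂ) u) * (χ : G → ℂ) v) from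
            Finset.sum_congr rfl fun χ _ => by rw [map_mul, Complex.conj_conj, mul_comm], e]
        ring
    simp only [hinner] at hsum
    rw [← Finset.sum_filter, ← Finset.mul_sum] at hsum
    have hPhi : ∑ v : G, conj (Phi M v) = (Nat.card G : ℂ) := by
      simp only [Phi, map_sum]
      rw [Finset.sum_comm]
      simp only [hall]
      rw [Finset.sum_ite_eq', if_pos (oneI_mem_PB hM)]
    have h1 : ∑ v ∈ Finset.univ.filter (fun v : G => 2 ∣ orderOf v), (1 - conj (Phi M v)) =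
        ∑ v ∈ R, conj (∑ χ ∈ SB M G, (χ : G → ℂ) v) := by
      have hall1 : ∑ v : G, (1 - conj (Phi M v)) = 0 := by
        rw [Finset.sum_sub_distrib, hPhi, Finset.sum_const, nsmul_eq_mul, mul_one, Finset.card_univ,
          ← Nat.card_eq_fintype_card, sub_self]
      rw [← Finset.sum_filter_add_sum_filter_not Finset.univ (fun v : G => 2 ∣ orderOf v), ← hR,
        add_eq_zero_iff_eq_neg] at hall1
      rw [hall1, ← Finset.sum_neg_distrib]
      refine Finset.sum_congr rfl fun v _ => ?_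
      rw [Phi_eq hM, map_add, map_one]
      ring
    rw [h1, ← map_sum, ← map_natCast conj n, ← map_mul] at hsum
    have := congrArg conj hsum
    rwa [Complex.conj_conj, map_natCast] at this
  have hnz : (n : ℤ) * ∑ χ ∈ SB M G, z χ = (q : ℤ) := by
    have h1 : ((Nat.card G : ℂ)) * ((n : ℂ) * ((∑ χ ∈ SB M G, z χ : ℤ) : ℂ)) =
        (Nat.card G : ℂ) * (q : ℂ) := by
      rw [← mul_left_comm (n : ℂ)]
      push_cast
      rw [Finset.mul_sum (a := (Nat.card G : ℂ))]
      simp only [← hz]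
      rw [← Finset.mul_sum, Finset.sum_comm, ← mul_assoc, mul_comm (n : ℂ) (q : ℂ), mul_assoc, hkey,
        mul_comm]
    exact_mod_cast mul_left_cancel₀ (Nat.cast_ne_zero.2 Nat.card_pos.ne') h1
  have hnq : n ∣ q := Int.natCast_dvd_natCast.1 ⟨_, hnz.symm⟩
  rw [Nat.dvd_antisymm hqn hnq |>.symm]

end Cfsg.Agent.Char.ConstDrop
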