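import Cfsg.Agent.Lib.Char.ConstantDrop.Shape

/-!
# The Sylow subgroup is self-centralizing
-/

set_option autoImplicit false
set_option linter.unusedSectionVars false
set_option linter.style.haveILetI false

namespace Cfsg.Agent.Char.ConstDrop

open Cfsg Module
open scoped ComplexConjugate

universe u

variable {G : Type u} [Group G] [Fintype G] {M : Ideal AlgInt}

namespace Ctx

variable (c : Ctx M G)

theorem hs_sing : 2 ∣ orderOf c.s := by rw [c.hs2]

theorem q_ne : (c.q : ℂ) ≠ 0 := Nat.cast_ne_zero.2 Nat.card_pos.ne'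

theorem degree_eq {χ : IrrCharacter G} (hχ : χ ∈ SB M G) :
    (χ : G → ℂ) 1 = (c.q : ℂ) + (χ : G → ℂ) c.s := by
  rw [c.value_s hχ, c.drop hχ]
  ring

open scoped Classical in
/-- The fixed points of the Sylow subgroup. -/
theorem sum_fixed {χ : IrrCharacter G} (hχ : χ ∈ SB M G) (R : Subgroup G) [Fintype R]
    (hR : R ≤ (c.P : Subgroup G)) :
    (Nat.card R : ℂ)⁻¹ * ∑ a : R, (χ : G → ℂ) (a : G) =
      (χ : G → ℂ) c.s + (c.q : ℂ) / (Nat.card R : ℂ) := by
  have hR0 : (Nat.card R : ℂ) ≠ 0 := Nat.cast_ne_zero.2 Nat.card_pos.ne'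
  rw [c.sum_P χ R hR, c.degree_eq hχ]
  field_simp
  ring

/-- The value at the involution is an integer, at least `-1`. -/
theorem value_int {χ : IrrCharacter G} (hχ : χ ∈ SB M G) :
    ∃ n : ℕ, (χ : G → ℂ) c.s = (n : ℂ) - 1 := by
  classical
  obtain ⟨N, ρ, hρ⟩ := irr_isCharacter χ.2
  obtain ⟨n, hn⟩ := proj_nat (avgE ρ (c.P : Subgroup G)) (avgE_sq ρ _)
  refine ⟨n, ?_⟩
  rw [trace_avgE, hρ, c.sum_fixed hχ _ le_rfl, show Nat.card (c.P : Subgroup G) = c.q from rfl,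
    div_self c.q_ne] at hn
  rw [← hn]; ring

theorem value_real {χ : IrrCharacter G} (hχ : χ ∈ SB M G) :
    conj ((χ : G → ℂ) c.s) = (χ : G → ℂ) c.s := by
  obtain ⟨n, hn⟩ := c.value_int hχ
  rw [hn]; simp

theorem value_ne_zero {χ : IrrCharacter G} (hχ : χ ∈ SB M G) : (χ : G → ℂ) c.s ≠ 0 := by
  intro h0
  have h := c.value_congr (mem_SB.1 hχ).1 (c.P_le_cent c.s_mem)
  rw [h0, zero_div, zero_sub] at h
  exact memLI_one_iff (pmod_prime c.hM) (by simpa using memLI_neg (pmod_prime c.hM) h)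

/-- The degrees against the involution. -/
theorem sum_degree_s : ∑ χ ∈ SB M G, (χ : G → ℂ) 1 * (χ : G → ℂ) c.s = -1 := by
  have h := orth_degree c.hM c.hs_sing
  rw [sum_PB c.hM] at h
  simp only [oneI_apply, one_mul] at h
  linear_combination h

/-- A regular column against the involution. -/
theorem sum_value_regular {x : G} (hx : ¬ 2 ∣ orderOf x) :
    ∑ χ ∈ SB M G, (χ : G → ℂ) c.s * (χ : G → ℂ) x = -1 := by
  have h := orth_prod c.hM c.hs_sing hx
  rw [sum_PB c.hM] at h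
  simp only [oneI_apply, one_mul] at h
  linear_combination h

include c in
/-- A singular column against the degrees. -/
theorem sum_degree_singular {v : G} (hv : 2 ∣ orderOf v) :
    ∑ χ ∈ SB M G, (χ : G → ℂ) 1 * (χ : G → ℂ) v = -1 := by
  have h := orth_degree c.hM hv
  rw [sum_PB c.hM] at h
  simp only [oneI_apply, one_mul] at h
  linear_combination h

/-- The values at the involution do not sum to zero. -/
theorem sum_value_ne_zero : ∑ χ ∈ SB M G, (χ : G → ℂ) c.s ≠ 0 := by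
  intro h0
  have h := c.sum_degree_s
  rw [Finset.sum_congr rfl fun χ hχ => by rw [c.degree_eq hχ, add_mul]] at h
  rw [Finset.sum_add_distrib, ← Finset.mul_sum, h0, mul_zero, zero_add] at h
  have hre := congrArg Complex.re h
  rw [Complex.re_sum, Complex.neg_re, Complex.one_re] at hre
  have : 0 ≤ ∑ χ ∈ SB M G, ((χ : G → ℂ) c.s * (χ : G → ℂ) c.s).re :=
    Finset.sum_nonneg fun χ hχ => by
      obtain ⟨n, hn⟩ := c.value_int hχ
      rw [hn, Complex.mul_re, Complex.sub_re, Complex.sub_im]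
      simpa using mul_self_nonneg ((n : ℝ) - 1)
  linarith

theorem dvd_two_of_mem {a x : G} (ha : a ∈ (c.P : Subgroup G)) (ha1 : a ≠ 1)
    (hx : ¬ 2 ∣ orderOf x) (hc : Commute a x) : 2 ∣ orderOf (a * x) := by
  rw [hc.orderOf_mul_eq_mul_orderOf_of_coprime (by
    rw [c.orderOf_P ha ha1]; exact Nat.prime_two.coprime_iff_not_dvd.2 hx), c.orderOf_P ha ha1]
  exact dvd_mul_right 2 _

open scoped Classical in
/-- The odd part of the centralizer of the Sylow subgroup has no fixed space or acts trivially. -/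
theorem fixed_dichotomy (K : Subgroup G) [Fintype K]
    (hKC : K ≤ Subgroup.centralizer ((c.P : Subgroup G) : Set G))
    (hKodd : ∀ x ∈ K, ¬ 2 ∣ orderOf x)
    (hKn : Subgroup.normalizer ((c.P : Subgroup G) : Set G) ≤ Subgroup.normalizer (K : Set G))
    {χ : IrrCharacter G} (hχ : χ ∈ SB M G) :
    (Nat.card K : ℂ)⁻¹ * ∑ y : K, (χ : G → ℂ) (y : G) = 0 ∨
      (Nat.card K : ℂ)⁻¹ * ∑ y : K, (χ : G → ℂ) (y : G) = (χ : G → ℂ) 1 := by
  haveI : Fact (Nat.Prime 2) := ⟨Nat.prime_two⟩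
  set k : ℂ := (Nat.card K : ℂ) with hkdef
  have hk0 : k ≠ 0 := Nat.cast_ne_zero.2 Nat.card_pos.ne'
  obtain ⟨f, hf⟩ : ∃ f : IrrCharacter G → ℂ, ∀ ψ, f ψ = k⁻¹ * ∑ y : K, (ψ : G → ℂ) (y : G) :=
    ⟨_, fun _ => rfl⟩
  rw [← hf]
  obtain ⟨F, hF⟩ : ∃ F : IrrCharacter G → ℂ, ∀ ψ, F ψ =
      k⁻¹ * ∑ y : K, (ψ : G → ℂ) (c.s * (y : G)) := ⟨_, fun _ => rfl⟩
  have hconst : ∀ ψ : IrrCharacter G, ∀ a ∈ (c.P : Subgroup G), a ≠ 1 →
      k⁻¹ * ∑ y : K, (ψ : G → ℂ) (a * (y : G)) = F ψ := by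
    intro ψ a ha ha1
    rw [hF]
    congr 1
    obtain ⟨g, hg, hga⟩ := c.exists_normalizer_conj ha ha1 c.s_mem c.s_ne
    have hmem := Subgroup.mem_normalizer_iff.1 (hKn hg)
    refine Fintype.sum_equiv
      { toFun := fun y : K => (⟨g * y * g⁻¹, (hmem y).1 y.2⟩ : K)
        invFun := fun y : K => (⟨g⁻¹ * y * g, (hmem _).2 (by
          rw [show g * (g⁻¹ * (y : G) * g) * g⁻¹ = y by group]; exact y.2)⟩ : K)
        left_inv := fun y => Subtype.ext (by simp [mul_assoc])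
        right_inv := fun y => Subtype.ext (by simp [mul_assoc]) } _ _ fun y => ?_
    show (ψ : G → ℂ) (a * (y : G)) = (ψ : G → ℂ) (c.s * (g * (y : G) * g⁻¹))
    rw [← hga, show g * a * g⁻¹ * (g * (y : G) * g⁻¹) = g * (a * (y : G)) * g⁻¹ by group,
      isClassFunction_character (irr_isCharacter ψ.2)]
  obtain ⟨Q, hQP, hQ⟩ := c.exists_half
  have hQc : (Nat.card Q : ℂ) = (c.q : ℂ) / 2 := by
    rw [← hQ]; push_cast; ring
  have hQ0 : (Nat.card Q : ℂ) ≠ 0 := Nat.cast_ne_zero.2 Nat.card_pos.ne'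
  have hpair : ∀ ψ : IrrCharacter G, ∀ (R : Subgroup G) [Fintype R], R ≤ (c.P : Subgroup G) →
      (Nat.card R : ℂ)⁻¹ * k⁻¹ * ∑ a : R, ∑ y : K, (ψ : G → ℂ) ((a : G) * y) =
        (Nat.card R : ℂ)⁻¹ * (f ψ + ((Nat.card R : ℂ) - 1) * F ψ) := by
    intro ψ R _ hR
    rw [mul_assoc, Finset.mul_sum, ← Finset.add_sum_erase _ _ (Finset.mem_univ (1 : R))]
    congr 2
    · rw [hf]; simp
    · rw [Finset.sum_congr rfl fun (a : R) ha => hconst ψ a (hR a.2)
        (fun e => (Finset.mem_erase.1 ha).1 (Subtype.ext e)), Finset.sum_const,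
        Finset.card_erase_of_mem (Finset.mem_univ _), Finset.card_univ, nsmul_eq_mul,
        Nat.card_eq_fintype_card, Nat.cast_sub Fintype.card_pos, Nat.cast_one]
  have hdata : ∀ ψ ∈ SB M G, ∃ g n' : ℕ, n' ≤ 1 ∧
      F ψ - (ψ : G → ℂ) c.s = (n' : ℂ) - (g : ℂ) ∧
      (ψ : G → ℂ) 1 - f ψ = (g : ℂ) + ((c.q : ℂ) - 1) * (n' : ℂ) ∧
      ∃ e : ℕ, (ψ : G → ℂ) c.s = (e : ℂ) - 1 ∧ g ≤ e := by
    intro ψ hψ
    obtain ⟨N, ρ, hρ⟩ := irr_isCharacter ψ.2
    have hPQ := avgE_avgE_comm ρ (c.P : Subgroup G) K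
      ((Subgroup.le_normalizer (H := (c.P : Subgroup G))).trans hKn)
    have hQK := avgE_avgE_comm ρ Q K
      ((hQP.trans (Subgroup.le_normalizer (H := (c.P : Subgroup G)))).trans hKn)
    have hPP := avgE_sq ρ (c.P : Subgroup G)
    have hQQ := avgE_sq ρ Q
    have hKK := avgE_sq ρ K
    have h1 := avgE_mul_of_le ρ hQP
    have h2 := avgE_mul_of_ge ρ hQP
    set A := avgE ρ (c.P : Subgroup G)
    set B := avgE ρ Q
    set E := avgE ρ K with hE
    have hD := sub_idem hQQ hPP h1 h2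
    have hDE : (B - A) * E = E * (B - A) := by rw [sub_mul, mul_sub, hPQ, hQK]
    have hone : (1 - E) * (1 - E) = 1 - E :=
      sub_idem (one_mul 1) hKK (one_mul E) (mul_one E)
    obtain ⟨g, hg⟩ := proj_nat (A * (1 - E)) (mul_idem hPP hone (by
      rw [mul_sub, sub_mul, mul_one, one_mul, hPQ]))
    obtain ⟨n, hn⟩ := proj_nat ((B - A) * E) (mul_idem hD hKK hDE)
    obtain ⟨n', hn'⟩ := proj_nat ((B - A) * (1 - E)) (mul_idem hD hone (by
      rw [mul_sub, sub_mul (1 : Module.End ℂ (Fin N → ℂ)), mul_one, one_mul, hDE]))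
    obtain ⟨f0, hf0⟩ := proj_nat (A * E) (mul_idem hPP hKK hPQ)
    have htP := trace_avgE ρ (c.P : Subgroup G)
    have htQ := trace_avgE ρ Q
    have htPK := trace_avgE_avgE ρ (c.P : Subgroup G) K
    have htQK := trace_avgE_avgE ρ Q K
    rw [hρ] at htP htQ htPK htQK
    rw [c.sum_fixed hψ _ le_rfl] at htP
    rw [c.sum_fixed hψ Q hQP] at htQ
    rw [hpair ψ _ le_rfl] at htPK
    rw [hpair ψ Q hQP] at htQK
    rw [show Nat.card (c.P : Subgroup G) = c.q from rfl] at htP htPK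
    rw [hQc] at htQ htQK
    simp only [mul_sub, sub_mul, mul_one, map_sub] at hg hn hn'
    have hsum : (n : ℂ) + n' = 1 := by
      rw [← hn, ← hn', htP, htQ]
      field_simp [c.q_ne]
      ring
    have hq0 := c.q_ne
    refine ⟨g, n', ?_, ?_, ?_, g + f0, ?_, Nat.le_add_right g f0⟩
    · have : n + n' = 1 := by exact_mod_cast hsum
      omega
    · rw [← hn', ← hg, htP, htQ, htPK, htQK]
      field_simp
      ring
    · rw [← hn', ← hg, htP, htQ, htPK, htQK, c.degree_eq hψ]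
      field_simp
      ring
    · push_cast
      rw [← hg, ← hf0, htP, htPK]
      field_simp
      ring
  choose! gg nn hn1 hFd hfd ee hee hge using hdata
  have hnn : ∀ ψ ∈ SB M G, nn ψ = 0 ∨ nn ψ = 1 := fun ψ hψ => by
    have := hn1 ψ hψ
    omega
  have hzero : ∀ v : K, ∀ w : K, ∑ ψ ∈ PB M G,
      (ψ : G → ℂ) (c.s * (v : G)) * (ψ : G → ℂ) (w : G) = 0 := fun v w =>
    orth_prod c.hM (c.dvd_two_of_mem c.s_mem c.s_ne (hKodd v v.2)
      ((Subgroup.mem_centralizer_iff.1 (hKC v.2) c.s c.s_mem))) (hKodd w w.2)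
  have hfone : f (oneI G) = 1 := by
    rw [hf]
    simp [hkdef, Nat.card_eq_fintype_card]
  have hFone : F (oneI G) = 1 := by
    rw [hF]
    simp [hkdef, Nat.card_eq_fintype_card]
  have E1 : ∑ ψ ∈ SB M G, (ψ : G → ℂ) 1 * (F ψ - (ψ : G → ℂ) c.s) = 0 := by
    simp only [mul_sub, Finset.sum_sub_distrib, c.sum_degree_s, sub_neg_eq_add]
    have : ∑ ψ ∈ PB M G, (ψ : G → ℂ) 1 * F ψ = 0 := by
      have h0 : ∀ v : K, ∑ ψ ∈ PB M G, (ψ : G → ℂ) 1 * (ψ : G → ℂ) (c.s * (v : G)) = 0 := fun v => by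
        rw [← hzero v 1]
        exact Finset.sum_congr rfl fun ψ _ => mul_comm _ _
      simp only [hF, Finset.mul_sum, ← mul_assoc]
      rw [Finset.sum_comm]
      refine Finset.sum_eq_zero fun v _ => ?_
      rw [← mul_zero k⁻¹, ← h0 v, Finset.mul_sum]
      exact Finset.sum_congr rfl fun ψ _ => by ring
    rw [sum_PB c.hM, hFone, oneI_apply] at this
    linear_combination this
  have E2 : ∑ ψ ∈ SB M G, (ψ : G → ℂ) c.s * ((ψ : G → ℂ) 1 - f ψ) = 0 := by
    have h2 : ∑ ψ ∈ SB M G, (ψ : G → ℂ) c.s * f ψ = -1 := by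
      simp only [hf, Finset.mul_sum]
      rw [Finset.sum_comm, Finset.sum_congr rfl (g := fun _ => k⁻¹ * (-1)) fun v _ => ?_,
        Finset.sum_const, Finset.card_univ, ← Nat.card_eq_fintype_card, nsmul_eq_mul, ← hkdef]
      · field_simp
      · rw [← c.sum_value_regular (hKodd (v : K) v.2), Finset.mul_sum]
        exact Finset.sum_congr rfl fun ψ _ => by ring
    have h4 := c.sum_value_regular (x := (1 : G)) (by simp)
    simp only [mul_sub, Finset.sum_sub_distrib, h2, h4, sub_self]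
  have E3 : ∑ ψ ∈ SB M G, (F ψ * f ψ - (ψ : G → ℂ) 1 * (ψ : G → ℂ) c.s) = 0 := by
    rw [Finset.sum_sub_distrib, c.sum_degree_s, sub_neg_eq_add]
    have h3 : ∑ ψ ∈ PB M G, F ψ * f ψ = 0 := by
      simp only [hF, hf, Finset.mul_sum, Finset.sum_mul]
      rw [Finset.sum_comm, Finset.sum_eq_zero]
      intro v _
      rw [Finset.sum_comm, Finset.sum_eq_zero]
      intro w _
      rw [← mul_zero (k⁻¹ * k⁻¹), ← hzero w v, Finset.mul_sum]
      exact Finset.sum_congr rfl fun ψ _ => by ring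
    rw [sum_PB c.hM, hFone, hfone] at h3
    linear_combination h3
  have hA : ∑ ψ ∈ SB M G, ((ee ψ : ℂ) * (nn ψ : ℂ) - (gg ψ : ℂ)) = 0 := by
    have h : (c.q : ℂ) * ∑ ψ ∈ SB M G, ((ee ψ : ℂ) * (nn ψ : ℂ) - (gg ψ : ℂ)) = 0 := by
      rw [Finset.mul_sum, ← add_zero (0 : ℂ)]
      conv_rhs => arg 1; rw [← E1]
      conv_rhs => arg 2; rw [← E2]
      rw [← Finset.sum_add_distrib]
      refine Finset.sum_congr rfl fun ψ hψ => ?_
      rw [hFd ψ hψ, hfd ψ hψ, c.degree_eq hψ, hee ψ hψ]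
      ring
    exact (mul_eq_zero.1 h).resolve_left c.q_ne
  have hBC : ∑ ψ ∈ SB M G, (gg ψ : ℂ) *
      (((ee ψ : ℂ) - (gg ψ : ℂ)) + ((c.q : ℂ) - 2) * (1 - (nn ψ : ℂ))) = 0 := by
    have h := congrArg₂ (fun x y : ℂ => x - y) E1 E3
    have h' := congrArg₂ (fun x y : ℂ => x - ((c.q : ℂ) - 1) * y) h hA
    simp only [sub_zero, mul_zero, add_zero] at h'
    rw [← Finset.sum_sub_distrib, Finset.mul_sum, ← Finset.sum_sub_distrib] at h'
    rw [← h']
    refine Finset.sum_congr rfl fun ψ hψ => ?_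
    have hnsq : (nn ψ : ℂ) ^ 2 = nn ψ := by
      rcases hnn ψ hψ with h | h <;> simp [h]
    have hFd' : F ψ = (nn ψ : ℂ) - (gg ψ : ℂ) + ((ee ψ : ℂ) - 1) := by
      rw [← hFd ψ hψ, ← hee ψ hψ]; ring
    have hfd' : f ψ = (c.q : ℂ) + ((ee ψ : ℂ) - 1) - ((gg ψ : ℂ) + ((c.q : ℂ) - 1) * (nn ψ : ℂ)) := by
      rw [← hfd ψ hψ, c.degree_eq hψ, hee ψ hψ]; ring
    rw [hFd', hfd', c.degree_eq hψ, hee ψ hψ]
    linear_combination (1 - (c.q : ℂ)) * hnsq
  have hterm : ∀ ψ ∈ SB M G, gg ψ * ((ee ψ - gg ψ) + (c.q - 2) * (1 - nn ψ)) = 0 := by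
    refine Finset.sum_eq_zero_iff.1 ?_
    apply Nat.cast_injective (R := ℂ)
    push_cast
    rw [← hBC]
    refine Finset.sum_congr rfl fun ψ hψ => ?_
    rw [Nat.cast_sub (hge ψ hψ), Nat.cast_sub (by have := c.h4; unfold q; omega),
      Nat.cast_sub (by rcases hnn ψ hψ with h | h <;> omega)]
    norm_num
  have hkey : ∀ ψ ∈ SB M G, gg ψ = nn ψ * ee ψ := by
    have hpt : ∀ ψ ∈ SB M G, gg ψ ≤ nn ψ * ee ψ := by
      intro ψ hψ
      rcases Nat.mul_eq_zero.1 (hterm ψ hψ) with h | h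
      · omega
      · have h4 : 2 ≤ c.q - 2 := by have := c.h4; unfold q; omega
        have hge' := hge ψ hψ
        rcases hnn ψ hψ with h1 | h1
        · rw [h1] at h
          simp only [Nat.sub_zero, mul_one] at h
          omega
        · rw [h1, one_mul]; exact hge'
    have hsum : ∑ ψ ∈ SB M G, gg ψ = ∑ ψ ∈ SB M G, nn ψ * ee ψ := by
      apply Nat.cast_injective (R := ℂ)
      push_cast
      rw [eq_comm, ← sub_eq_zero, ← hA, ← Finset.sum_sub_distrib]
      exact Finset.sum_congr rfl fun ψ _ => by ring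
    exact (Finset.sum_eq_sum_iff_of_le hpt).1 hsum
  have h := hfd χ hχ
  rw [hkey χ hχ] at h
  rcases hnn χ hχ with h1 | h1
  · right
    rw [h1] at h
    push_cast at h
    linear_combination -h
  · left
    rw [h1] at h
    push_cast at h
    have e1 : f χ = (χ : G → ℂ) 1 - ((ee χ : ℂ) + ((c.q : ℂ) - 1)) := by linear_combination -h
    rw [e1, c.degree_eq hχ, hee χ hχ]
    ring

/-- The Sylow subgroup is self-centralizing. -/
theorem cent_eq : Subgroup.centralizer ((c.P : Subgroup G) : Set G) = (c.P : Subgroup G) := by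
  classical
  haveI : Fact (Nat.Prime 2) := ⟨Nat.prime_two⟩
  have hP := pmod_prime c.hM
  obtain ⟨K, hKodd, hKC, -, hKord, hdec, hKn⟩ := c.exists_oddPart
  have hk0 : (Nat.card K : ℂ) ≠ 0 := Nat.cast_ne_zero.2 Nat.card_pos.ne'
  obtain ⟨B1, hB1⟩ : ∃ B1 : Finset (IrrCharacter G), B1 = (SB M G).filter (fun ψ : IrrCharacter G =>
      (Nat.card K : ℂ)⁻¹ * ∑ y : K, (ψ : G → ℂ) (y : G) = (ψ : G → ℂ) 1) := ⟨_, rfl⟩
  have hne : B1.Nonempty := by
    by_contra he
    rw [Finset.not_nonempty_iff_eq_empty, hB1, Finset.filter_eq_empty_iff] at he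
    have hz : ∀ ψ ∈ SB M G, ∑ y : K, (ψ : G → ℂ) (y : G) = 0 := fun ψ hψ =>
      (mul_eq_zero.1 ((c.fixed_dichotomy K hKC hKord hKn hψ).resolve_right (he hψ))).resolve_left
        (inv_ne_zero hk0)
    have hev : MemLocalIdeal M (∑ y : K, Phi M (y : G)) := memLI_sum hP _ _ fun y _ =>
      Phi_even c.hM c.hs2 (hKord y y.2) (Subgroup.mem_centralizer_iff.1 (hKC y.2) c.s c.s_mem)
    simp only [Phi_eq c.hM, Finset.sum_add_distrib] at hev
    rw [Finset.sum_comm, Finset.sum_eq_zero hz, add_zero, Finset.sum_const, nsmul_eq_mul, mul_one,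
      Finset.card_univ, ← Nat.card_eq_fintype_card] at hev
    exact hKodd ((memLI_natCast_iff c.hM _).1 hev)
  have hK1 : K = ⊥ := by
    rw [Subgroup.eq_bot_iff_forall]
    intro y hy
    obtain ⟨R, hR⟩ : ∃ R : Subgroup G, R = blockKerSub (B1 : Set (IrrCharacter G)) := ⟨_, rfl⟩
    haveI : R.Normal := hR ▸ blockKerSub_normal _
    have hKR : K ≤ R := by
      intro z hz
      rw [hR]
      intro ψ hψ
      rw [Finset.mem_coe, hB1, Finset.mem_filter] at hψ
      obtain ⟨N, ρ, hρ⟩ := irr_isCharacter ψ.2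
      have ht := trace_avgE ρ K
      rw [hρ, hψ.2, ← hρ, Representation.char_one] at ht
      obtain ⟨m, hm⟩ := proj_nat (1 - avgE ρ K)
        (sub_idem (one_mul 1) (avgE_sq ρ K) (one_mul _) (mul_one _))
      have hp : LinearMap.IsProj (LinearMap.range (avgE ρ K)) (avgE ρ K) :=
        ⟨fun v => ⟨v, rfl⟩, fun w hw => by
          obtain ⟨v, rfl⟩ := hw
          rw [← Module.End.mul_apply, avgE_sq]⟩
      have htop : LinearMap.range (avgE ρ K) = ⊤ := by
        refine Submodule.eq_top_of_finrank_eq ?_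
        have := hp.trace.symm.trans ht
        exact_mod_cast this
      have hid : avgE ρ K = 1 := LinearMap.ext fun v => hp.map_id v (htop ▸ Submodule.mem_top)
      have hz1 := mul_avgE_of_mem ρ K hz
      rw [hid, mul_one] at hz1
      rw [← hρ]
      simp only [Representation.character, hz1, map_one]
    have hRodd : ¬ 2 ∣ Nat.card R := by
      intro h2
      obtain ⟨t, ht⟩ := exists_prime_orderOf_dvd_card' 2 h2
      rw [← Subgroup.orderOf_coe] at ht
      obtain ⟨g, hg⟩ := isConj_iff.1 (c.hone (t : G) (by rw [← sq, ← ht]; exact pow_orderOf_eq_one _)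
        (fun e => by rw [e, orderOf_one] at ht; omega))
      obtain ⟨ψ, hψ⟩ := hne
      have hsR : c.s ∈ blockKerSub (B1 : Set (IrrCharacter G)) :=
        hR ▸ (show c.s ∈ R by rw [s, ← hg]; exact ‹R.Normal›.conj_mem _ t.2 g)
      have h1 := hsR ψ (Finset.mem_coe.2 hψ)
      rw [hB1, Finset.mem_filter] at hψ
      rw [c.degree_eq hψ.1] at h1
      exact c.q_ne (by linear_combination -h1)
    have hle : R ≤ oddCore G :=
      Fusion.le_pPrimeCore (Nat.coprime_comm.1 (Nat.prime_two.coprime_iff_not_dvd.2 hRodd))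
    rw [c.hO] at hle
    exact Subgroup.mem_bot.1 (hle (hKR hy))
  refine le_antisymm (fun x hx => ?_) c.P_le_cent
  obtain ⟨a, ha, y, hy, rfl⟩ := hdec x hx
  rw [hK1, Subgroup.mem_bot] at hy
  rw [hy, mul_one]
  exact ha

end Ctx

end Cfsg.Agent.Char.ConstDrop
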