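import Cfsg.Agent.Lib.Char.ConstantDrop.Section

/-!
# The setting with elementary abelian Sylow 2-subgroups
-/

set_option autoImplicit false
set_option linter.unusedSectionVars false
set_option linter.style.haveILetI false

namespace Cfsg.Agent.Char.ConstDrop

open Cfsg Module
open scoped ComplexConjugate

universe u

variable {G : Type u} [Group G] [Fintype G] {M : Ideal AlgInt}

/-- Burnside's transfer theorem, with all elements of odd order in the complement. -/
theorem exists_complement_of_central (T : Sylow 2 G)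
    (h : Subgroup.normalizer ((T : Subgroup G) : Set G) ≤
      Subgroup.centralizer ((T : Subgroup G) : Set G)) :
    ∃ K : Subgroup G, K.Normal ∧ ¬ 2 ∣ Nat.card K ∧ (∃ j : ℕ, K.index = 2 ^ j) ∧
      K.index = Nat.card (T : Subgroup G) ∧ ∀ x : G, ¬ 2 ∣ orderOf x → x ∈ K := by
  haveI : Fact (Nat.Prime 2) := ⟨Nat.prime_two⟩
  refine ⟨(MonoidHom.transferSylow T h).ker, inferInstance,
    MonoidHom.not_dvd_card_ker_transferSylow T h, ?_⟩
  have hi := (MonoidHom.ker_transferSylow_isComplement' T h).symm.index_eq_card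
  have hj : ∃ j : ℕ, (MonoidHom.transferSylow T h).ker.index = 2 ^ j := by
    rw [hi]; exact IsPGroup.iff_card.1 T.isPGroup'
  refine ⟨hj, hi, fun x hx => ?_⟩
  obtain ⟨j, hj⟩ := hj
  exact (regular_iff_mem_of_index Nat.prime_two _ (MonoidHom.not_dvd_card_ker_transferSylow T h) hj x).1 hx

/-- The standing hypotheses of the forward direction. -/
structure Ctx (M : Ideal AlgInt) (G : Type u) [Group G] [Fintype G] where
  hM : IsPModular 2 M
  hO : oddCore G = ⊥
  u : G
  hu : u ≠ 1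
  P : Sylow 2 G
  hsP : ppt 2 u ∈ (P : Subgroup G)
  hexp : ∀ a ∈ (P : Subgroup G), a * a = 1
  hone : ∀ v : G, v * v = 1 → v ≠ 1 → IsConj v (ppt 2 u)
  h4 : 4 ≤ Nat.card (P : Subgroup G)
  hk : Drop M u (Nat.card (P : Subgroup G) : ℂ)

namespace Ctx

variable (c : Ctx M G)

/-- The involution. -/
noncomputable def s : G := ppt 2 c.u

/-- The order of a Sylow 2-subgroup. -/
noncomputable def q : ℕ := Nat.card (c.P : Subgroup G)

theorem s_mem : c.s ∈ (c.P : Subgroup G) := c.hsP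

theorem comm {a b : G} (ha : a ∈ (c.P : Subgroup G)) (hb : b ∈ (c.P : Subgroup G)) :
    a * b = b * a := by
  have hinv : ∀ {x : G}, x ∈ (c.P : Subgroup G) → x⁻¹ = x := fun {x} hx =>
    inv_eq_of_mul_eq_one_right (c.hexp x hx)
  have := hinv (mul_mem ha hb)
  rw [mul_inv_rev, hinv ha, hinv hb] at this
  exact this.symm

theorem isMulComm : IsMulCommutative (c.P : Subgroup G) :=
  ⟨⟨fun a b => Subtype.ext (c.comm a.2 b.2)⟩⟩

theorem P_le_cent : (c.P : Subgroup G) ≤ Subgroup.centralizer ((c.P : Subgroup G) : Set G) :=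
  fun _ ha => Subgroup.mem_centralizer_iff.2 fun _ hb => c.comm hb ha

theorem hu2 : 2 ∣ orderOf c.u := (section_facts c.hM c.hO c.hu c.hk).2.1

theorem hs2 : orderOf c.s = 2 := (section_facts c.hM c.hO c.hu c.hk).1

theorem s_ne : c.s ≠ 1 := fun e => by
  have := c.hs2
  rw [e, orderOf_one] at this
  omega

theorem orderOf_P {a : G} (ha : a ∈ (c.P : Subgroup G)) (ha1 : a ≠ 1) : orderOf a = 2 :=
  orderOf_eq_prime (hp := ⟨Nat.prime_two⟩) (by rw [sq]; exact c.hexp a ha) ha1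

theorem mem_P_of_two {v : G} (hv : ∃ j : ℕ, orderOf v = 2 ^ j)
    (hc : v ∈ Subgroup.centralizer ((c.P : Subgroup G) : Set G)) : v ∈ (c.P : Subgroup G) := by
  haveI : Fact (Nat.Prime 2) := ⟨Nat.prime_two⟩
  exact mem_sylow_of_commute c.P (isPGroup_of_ppower Nat.prime_two hv) hc

/-- Characters are constant on the involutions. -/
theorem value_P (χ : IrrCharacter G) {a : G} (ha : a ∈ (c.P : Subgroup G)) (ha1 : a ≠ 1) :
    (χ : G → ℂ) a = (χ : G → ℂ) c.s := by
  obtain ⟨g, hg⟩ := isConj_iff.1 (c.hone a (c.hexp a ha) ha1)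
  rw [s, ← hg, isClassFunction_character (irr_isCharacter χ.2)]

/-- The normalizer is transitive on the involutions of the Sylow subgroup. -/
theorem exists_normalizer_conj {a b : G} (ha : a ∈ (c.P : Subgroup G)) (ha1 : a ≠ 1)
    (hb : b ∈ (c.P : Subgroup G)) (hb1 : b ≠ 1) :
    ∃ g ∈ Subgroup.normalizer ((c.P : Subgroup G) : Set G), g * a * g⁻¹ = b := by
  haveI : Fact (Nat.Prime 2) := ⟨Nat.prime_two⟩
  haveI := c.isMulComm
  obtain ⟨g, hg⟩ := isConj_iff.1 ((c.hone a (c.hexp a ha) ha1).trans (c.hone b (c.hexp b hb) hb1).symm)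
  obtain ⟨n, hn, he⟩ := c.P.conj_eq_normalizer_conj_of_mem a g⁻¹ ha (by rwa [inv_inv, hg])
  refine ⟨n⁻¹, inv_mem hn, ?_⟩
  rw [inv_inv, ← hg, ← he, inv_inv]

/-- The elements of odd order of the centralizer of the Sylow subgroup. -/
theorem exists_oddPart : ∃ K : Subgroup G, ¬ 2 ∣ Nat.card K ∧
    K ≤ Subgroup.centralizer ((c.P : Subgroup G) : Set G) ∧
    (∀ x ∈ Subgroup.centralizer ((c.P : Subgroup G) : Set G), ¬ 2 ∣ orderOf x → x ∈ K) ∧
    (∀ x ∈ K, ¬ 2 ∣ orderOf x) ∧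
    (∀ x ∈ Subgroup.centralizer ((c.P : Subgroup G) : Set G),
      ∃ a ∈ (c.P : Subgroup G), ∃ y ∈ K, x = a * y) ∧
    Subgroup.normalizer ((c.P : Subgroup G) : Set G) ≤ Subgroup.normalizer (K : Set G) := by
  classical
  haveI : Fact (Nat.Prime 2) := ⟨Nat.prime_two⟩
  set C := Subgroup.centralizer ((c.P : Subgroup G) : Set G) with hC
  set T : Sylow 2 C := c.P.subtype c.P_le_cent
  have hT : Subgroup.normalizer ((T : Subgroup C) : Set C) ≤
      Subgroup.centralizer ((T : Subgroup C) : Set C) := fun x _ => Subgroup.mem_centralizer_iff.2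
    fun t ht => Subtype.ext (Subgroup.mem_centralizer_iff.1 x.2 t (Subgroup.mem_subgroupOf.1 ht))
  obtain ⟨K0, hn, hodd, -, -, hreg⟩ := exists_complement_of_central T hT
  have hodd' : ∀ x ∈ K0.map C.subtype, ¬ 2 ∣ orderOf x := by
    rintro _ ⟨x, hx, rfl⟩ h
    rw [Subgroup.coe_subtype, Subgroup.orderOf_coe] at h
    exact hodd (h.trans (Subgroup.orderOf_mk x hx ▸ orderOf_dvd_natCard (⟨x, hx⟩ : K0)))
  have hmem : ∀ x ∈ C, ¬ 2 ∣ orderOf x → x ∈ K0.map C.subtype := fun x hx h =>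
    ⟨⟨x, hx⟩, hreg _ (by rwa [Subgroup.orderOf_mk]), rfl⟩
  refine ⟨K0.map C.subtype, ?_, Subgroup.map_subtype_le _, hmem, hodd', fun x hx => ?_, fun g hg => ?_⟩
  · rwa [Subgroup.card_map_of_injective C.subtype_injective]
  · obtain ⟨⟨y, hy, hcm, hpow, hr⟩, -, -⟩ := preg_spec Nat.prime_two (⟨x, hx⟩ : C)
    set z : C := ⟨x, hx⟩ * (preg 2 (⟨x, hx⟩ : C))⁻¹
    refine ⟨(z : G), c.mem_P_of_two (by simpa [Subgroup.orderOf_coe] using hpow) z.2, (y : G),
      hmem _ y.2 (by rwa [Subgroup.orderOf_coe]), ?_⟩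
    exact (congrArg Subtype.val hy).symm
  · have key : ∀ g ∈ Subgroup.normalizer ((c.P : Subgroup G) : Set G), ∀ x ∈ K0.map C.subtype,
        g * x * g⁻¹ ∈ K0.map C.subtype := by
      intro g hg x hx
      refine hmem _ ?_ (by rw [← MulAut.conj_apply, MulEquiv.orderOf_eq]; exact hodd' x hx)
      exact (conj_mem_centralizer_iff (H := Subgroup.normalizer ((c.P : Subgroup G) : Set G)) le_rfl
        ⟨g, hg⟩ x).2 (Subgroup.map_subtype_le _ hx)
    refine Subgroup.mem_normalizer_iff.2 fun x => ⟨key g hg x, fun h => ?_⟩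
    have := key g⁻¹ (inv_mem hg) _ h
    simpa [mul_assoc] using this

/-- Elements centralizing the Sylow subgroup have classes of odd size, so their values are
congruent to the degree. -/
theorem value_congr {χ : IrrCharacter G} (hχ : χ ∈ principalBlock M G) {x : G}
    (hx : x ∈ Subgroup.centralizer ((c.P : Subgroup G) : Set G)) :
    MemLocalIdeal M ((χ : G → ℂ) x / (χ : G → ℂ) 1 - 1) := by
  haveI : Fact (Nat.Prime 2) := ⟨Nat.prime_two⟩
  have hP := pmod_prime c.hM
  obtain ⟨i, hi⟩ : ∃ i, i = (Subgroup.centralizer ({x} : Set G)).index := ⟨_, rfl⟩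
  have hodd : ¬ 2 ∣ i := by
    intro h
    refine c.P.not_dvd_index (h.trans (hi ▸ Subgroup.index_dvd_of_le fun a ha => ?_))
    exact Subgroup.mem_centralizer_singleton_iff.2 (Subgroup.mem_centralizer_iff.1 hx a ha)
  have h := hχ x
  simp only [centralChar, ← hi, mul_one, div_one] at h
  have e : (χ : G → ℂ) x / (χ : G → ℂ) 1 - 1 =
      (i : ℂ)⁻¹ * -((i : ℂ) - (i : ℂ) * (χ : G → ℂ) x / (χ : G → ℂ) 1) := by
    have : (i : ℂ) ≠ 0 := Nat.cast_ne_zero.2 fun e => hodd (e ▸ dvd_zero 2)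
    field_simp
    ring
  rw [e]
  exact memLI_mul_left hP (memLR_inv_natCast c.hM hodd) (memLI_neg hP h)

/-- The degree of a character trivial on a subgroup of odd index is odd. -/
theorem odd_degree (χ : IrrCharacter G) (N : Subgroup G) (hN : ∀ n ∈ N, (χ : G → ℂ) n = (χ : G → ℂ) 1)
    (hPN : (c.P : Subgroup G) ≤ N) : ¬ 2 ∣ charDegree (χ : G → ℂ) := by
  haveI : Fact (Nat.Prime 2) := ⟨Nat.prime_two⟩
  obtain ⟨K, hKn, hK⟩ := exists_charKernel (irr_isCharacter χ.2)
  haveI := hKn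
  intro h
  exact c.P.not_dvd_index ((h.trans (charDegree_dvd_index_kernel χ hK)).trans
    (Subgroup.index_dvd_of_le fun a ha => (hK a).2 (hN a (hPN ha))))

end Ctx

end Cfsg.Agent.Char.ConstDrop
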