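import Cfsg.Agent.Lib.Char.ConstantDrop.Setting

/-!
# The restriction of the block to a Sylow 2-subgroup
-/

set_option autoImplicit false
set_option linter.unusedSectionVars false
set_option linter.style.haveILetI false

namespace Cfsg.Agent.Char.ConstDrop

open Cfsg Module
open scoped ComplexConjugate

universe u

variable {G : Type u} [Group G] [Fintype G] {M : Ideal AlgInt}

open scoped Classical in
/-- The column of a quotient against the degrees. -/
theorem sum_trivial_on (N : Subgroup G) [N.Normal] (hM : M.IsPrime) (x : G) :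
    ∑ χ ∈ (Finset.univ : Finset (IrrCharacter G)).filter
        (fun χ : IrrCharacter G => ∀ n ∈ N, (χ : G → ℂ) n = (χ : G → ℂ) 1),
      (χ : G → ℂ) 1 * (χ : G → ℂ) x = if x ∈ N then (N.index : ℂ) else 0 := by
  have hN0 : (Nat.card N : ℂ) ≠ 0 := Nat.cast_ne_zero.mpr Nat.card_pos.ne'
  have hG : (Nat.card G : ℂ) = Nat.card N * N.index := by
    rw [← Nat.cast_mul, Subgroup.card_mul_index]
  have hi : (N.index : ℂ) ≠ 0 := Nat.cast_ne_zero.mpr N.index_ne_zero_of_finite
  have h := congrFun (classFun_eq_sum_idem (intClassFun_subInd hM N).1) x⁻¹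
  rw [Finset.sum_apply] at h
  have e : ∀ χ : IrrCharacter G, (lam (χ : G → ℂ) (subInd N) • idem (χ : G → ℂ)) x⁻¹ =
      if (∀ n ∈ N, (χ : G → ℂ) n = (χ : G → ℂ) 1) then
        (N.index : ℂ)⁻¹ * ((χ : G → ℂ) 1 * (χ : G → ℂ) x) else 0 := by
    intro χ
    have hc : conj ((χ : G → ℂ) x⁻¹) = (χ : G → ℂ) x := by
      rw [char_inv (irr_isCharacter χ.2), Complex.conj_conj]
    rw [Pi.smul_apply, smul_eq_mul, idem, hc]
    split_ifs with h
    · rw [(trivial_on_iff_lam N χ).mp h, hG, mul_inv]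
      field_simp
    · rw [(lam_subInd_cases hM N χ).resolve_right fun h' => h ((trivial_on_iff_lam N χ).mpr h'),
        zero_mul]
  change subInd N x⁻¹ = ∑ χ : IrrCharacter G, (lam (χ : G → ℂ) (subInd N) • idem (χ : G → ℂ)) x⁻¹ at h
  rw [Finset.sum_congr rfl fun χ _ => e χ, ← Finset.sum_filter, ← Finset.mul_sum, subInd] at h
  simp only [inv_mem_iff] at h
  rw [eq_inv_mul_iff_mul_eq₀ hi] at h
  rw [← h]
  split_ifs <;> simp

namespace Ctx

variable (c : Ctx M G)

theorem drop {χ : IrrCharacter G} (hχ : χ ∈ SB M G) :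
    (χ : G → ℂ) c.u = (χ : G → ℂ) 1 - (c.q : ℂ) := by
  rw [q, ← c.hk χ hχ]
  ring

/-- A normal subgroup containing the centralizer of the Sylow subgroup is everything. -/
theorem eq_top_of_cent_le (N : Subgroup G) [N.Normal]
    (hN : Subgroup.centralizer ((c.P : Subgroup G) : Set G) ≤ N) : N = ⊤ := by
  classical
  haveI : Fact (Nat.Prime 2) := ⟨Nat.prime_two⟩
  have hP := pmod_prime c.hM
  have hidx : ¬ 2 ∣ N.index := fun h =>
    c.P.not_dvd_index (h.trans (Subgroup.index_dvd_of_le (c.P_le_cent.trans hN)))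
  have hB : ∀ θ : IrrCharacter G, (∀ n ∈ N, (θ : G → ℂ) n = (θ : G → ℂ) 1) →
      θ ∈ principalBlock M G := by
    intro θ hθ
    refine (lam_regInd_unit_iff c.hM θ).1 ?_
    have hcf : IsClassFunction G fun x => (regInd 2 : G → ℂ) x * (θ : G → ℂ) x := fun a k => by
      simp only [isClassFunction_regInd 2 a k, isClassFunction_character (irr_isCharacter θ.2) a k]
    have hint : ∀ x, MemLocalRing M ((regInd 2 : G → ℂ) x * (θ : G → ℂ) x) := fun x =>
      memLR_mul hP ((intClassFun_regInd hP).2 x) (memLR_char hP (irr_isCharacter θ.2) x)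
    have h := sum_centralizer_congr c.hM c.P.isPGroup'
      (fun x => (regInd 2 : G → ℂ) x * (θ : G → ℂ) x) hint (fun a _ x => hcf x a)
    obtain ⟨d, hd⟩ := charOne_eq_natCast (irr_isCharacter θ.2)
    have hdodd : ¬ 2 ∣ d := by
      have := c.odd_degree θ N hθ (c.P_le_cent.trans hN)
      rwa [charDegree, hd, Complex.natCast_re, Nat.floor_natCast] at this
    have hcnt : ¬ MemLocalIdeal M (∑ x : G with x ∈ Subgroup.centralizer ((c.P : Subgroup G) : Set G),
        (regInd 2 : G → ℂ) x) := by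
      intro h0
      have h' := sum_centralizer_congr c.hM c.P.isPGroup' (regInd 2)
        (intClassFun_regInd hP).2 (fun a _ x => isClassFunction_regInd 2 x a)
      exact not_memLI_card_regular c.hM (memLI_congr hP h' h0)
    intro h0
    rw [lam] at h0
    have h1 : MemLocalIdeal M (∑ x : G, (regInd 2 : G → ℂ) x * (θ : G → ℂ) x) := by
      have := memLI_mul_right hP h0 (memLR_char hP (irr_isCharacter θ.2) 1)
      rwa [div_mul_cancel₀ _ (irr_one_ne_zero θ.2)] at this
    have h2 : MemLocalIdeal M (∑ x : G with x ∈ Subgroup.centralizer ((c.P : Subgroup G) : Set G),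
        (regInd 2 : G → ℂ) x * (θ : G → ℂ) x) := by
      have := memLI_sub hP h1 h
      simpa using this
    refine hcnt ?_
    have e : ∑ x : G with x ∈ Subgroup.centralizer ((c.P : Subgroup G) : Set G),
        (regInd 2 : G → ℂ) x * (θ : G → ℂ) x =
        (∑ x : G with x ∈ Subgroup.centralizer ((c.P : Subgroup G) : Set G),
          (regInd 2 : G → ℂ) x) * (d : ℂ) := by
      rw [Finset.sum_mul]
      refine Finset.sum_congr rfl fun x hx => ?_
      rw [hθ x (hN (Finset.mem_filter.1 hx).2), hd]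
    rw [e] at h2
    have h3 := memLI_mul_right hP h2 (memLR_inv_natCast c.hM hdodd)
    rwa [mul_assoc, mul_inv_cancel₀ (Nat.cast_ne_zero.2 (fun e : d = 0 => hdodd (e ▸ dvd_zero 2))), mul_one] at h3
  by_contra hne
  have hcol := sum_trivial_on N hP c.u
  have hdeg := sum_trivial_on N hP (1 : G)
  rw [if_pos (one_mem N)] at hdeg
  set Θ := (Finset.univ : Finset (IrrCharacter G)).filter
    (fun χ : IrrCharacter G => ∀ n ∈ N, (χ : G → ℂ) n = (χ : G → ℂ) 1)
  have hone : oneI G ∈ Θ := Finset.mem_filter.2 ⟨Finset.mem_univ _, fun n _ => rfl⟩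
  have hS : ∀ θ ∈ Θ.erase (oneI G), θ ∈ SB M G := fun θ hθ => by
    rw [SB, Finset.mem_erase, mem_PB]
    exact ⟨(Finset.mem_erase.1 hθ).1, hB θ (Finset.mem_filter.1 (Finset.mem_erase.1 hθ).2).2⟩
  by_cases hu : c.u ∈ N
  · refine hne (Subgroup.index_eq_one.1 ?_)
    have he : Θ.erase (oneI G) = ∅ := by
      rw [Finset.eq_empty_iff_forall_notMem]
      intro θ hθ
      have h1 := c.drop (hS θ hθ)
      rw [(Finset.mem_filter.1 (Finset.mem_erase.1 hθ).2).2 c.u hu, eq_comm, sub_eq_self,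
        Nat.cast_eq_zero] at h1
      exact absurd h1 Nat.card_pos.ne'
    rw [← Finset.add_sum_erase _ _ hone, he, Finset.sum_empty, add_zero] at hdeg
    simp only [oneI_apply, mul_one] at hdeg
    exact_mod_cast hdeg.symm
  · rw [if_neg hu, ← Finset.add_sum_erase _ _ hone,
      Finset.sum_congr rfl fun θ hθ => congrArg _ (c.drop (hS θ hθ))] at hcol
    rw [← Finset.add_sum_erase _ _ hone] at hdeg
    simp only [oneI_apply, mul_one, mul_sub, Finset.sum_sub_distrib, ← Finset.sum_mul] at hcol hdeg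
    choose d hd using fun θ : IrrCharacter G => charOne_eq_natCast (irr_isCharacter θ.2)
    have e : (N.index : ℂ) = ((∑ θ ∈ Θ.erase (oneI G), d θ) * c.q : ℕ) := by
      push_cast
      simp only [← hd]
      linear_combination hdeg.symm.trans rfl + hcol
    have e' : N.index = (∑ θ ∈ Θ.erase (oneI G), d θ) * c.q := by exact_mod_cast e
    refine hidx (e' ▸ dvd_mul_of_dvd_right ?_ _)
    obtain ⟨j, hj⟩ := IsPGroup.iff_card.1 c.P.isPGroup'
    have := c.h4
    rw [q, hj]
    exact dvd_pow_self 2 fun e => by rw [hj, e] at this; omega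

theorem two_dvd_q : 2 ∣ c.q := by
  haveI : Fact (Nat.Prime 2) := ⟨Nat.prime_two⟩
  obtain ⟨j, hj⟩ := IsPGroup.iff_card.1 c.P.isPGroup'
  have := c.h4
  rw [q, hj]
  exact dvd_pow_self 2 fun e => by rw [hj, e] at this; omega

open scoped Classical in
theorem sum_P (χ : IrrCharacter G) (R : Subgroup G) [Fintype R] (hR : R ≤ (c.P : Subgroup G)) :
    ∑ a : R, (χ : G → ℂ) (a : G) =
      (χ : G → ℂ) 1 + ((Nat.card R : ℂ) - 1) * (χ : G → ℂ) c.s := by
  rw [← Finset.add_sum_erase _ _ (Finset.mem_univ (1 : R)), OneMemClass.coe_one,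
    Finset.sum_congr rfl fun a ha => c.value_P χ (hR a.2)
      (fun e => (Finset.mem_erase.1 ha).1 (Subtype.ext e)), Finset.sum_const,
    Finset.card_erase_of_mem (Finset.mem_univ _), Finset.card_univ, nsmul_eq_mul,
    Nat.card_eq_fintype_card, Nat.cast_sub Fintype.card_pos, Nat.cast_one]

/-- A subgroup of index two in the Sylow subgroup. -/
theorem exists_half : ∃ Q : Subgroup G, Q ≤ (c.P : Subgroup G) ∧ 2 * Nat.card Q = c.q := by
  haveI : Fact (Nat.Prime 2) := ⟨Nat.prime_two⟩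
  obtain ⟨j, hj⟩ := IsPGroup.iff_card.1 c.P.isPGroup'
  have h4 := c.h4
  obtain ⟨i, rfl⟩ : ∃ i, j = i + 1 := ⟨j - 1, by
    have : j ≠ 0 := fun e => by rw [hj, e] at h4; omega
    omega⟩
  obtain ⟨Q, hQ⟩ := Sylow.exists_subgroup_card_pow_prime 2
    (G := (c.P : Subgroup G)) (n := i) (by rw [hj]; exact pow_dvd_pow 2 (Nat.le_succ i))
  refine ⟨Q.map (c.P : Subgroup G).subtype, Subgroup.map_subtype_le _, ?_⟩
  rw [Subgroup.card_map_of_injective (Subgroup.subtype_injective _), hQ, q, hj, pow_succ]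
  ring

/-- The restriction to the Sylow subgroup: a trivial part and one regular part. -/
theorem value_s {χ : IrrCharacter G} (hχ : χ ∈ SB M G) :
    (χ : G → ℂ) c.s = (χ : G → ℂ) c.u := by
  classical
  haveI : Fact (Nat.Prime 2) := ⟨Nat.prime_two⟩
  have hP := pmod_prime c.hM
  obtain ⟨Q, hQP, hQ⟩ := c.exists_half
  have hq0 : (c.q : ℂ) ≠ 0 := Nat.cast_ne_zero.2 Nat.card_pos.ne'
  have hQc : (Nat.card Q : ℂ) = (c.q : ℂ) / 2 := by
    rw [← hQ]; push_cast; ring
  have hQ0 : (Nat.card Q : ℂ) ≠ 0 := Nat.cast_ne_zero.2 Nat.card_pos.ne'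
  have hmult : ∀ ψ : IrrCharacter G, ∃ m : ℕ,
      (ψ : G → ℂ) 1 - (ψ : G → ℂ) c.s = (c.q : ℂ) * (m : ℂ) := by
    intro ψ
    obtain ⟨N, ρ, hρ⟩ := irr_isCharacter ψ.2
    obtain ⟨m, hm⟩ := proj_nat (avgE ρ Q - avgE ρ (c.P : Subgroup G))
      (sub_idem (avgE_sq ρ _) (avgE_sq ρ _) (avgE_mul_of_le ρ hQP) (avgE_mul_of_ge ρ hQP))
    refine ⟨m, ?_⟩
    rw [map_sub, trace_avgE, trace_avgE, hρ, c.sum_P ψ Q hQP, c.sum_P ψ _ le_rfl,
      show Nat.card (c.P : Subgroup G) = c.q from rfl, hQc] at hm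
    rw [← hm]
    field_simp
    ring
  choose m hm using hmult
  choose d hd using fun ψ : IrrCharacter G => charOne_eq_natCast (irr_isCharacter ψ.2)
  have hcol : ∑ ψ ∈ SB M G, (d ψ : ℂ) * ((m ψ : ℂ) - 1) = 0 := by
    have h0 := orth_degree c.hM (v := c.s) (by rw [c.hs2])
    have h1 := orth_degree c.hM (v := c.u) c.hu2
    rw [sum_PB c.hM] at h0 h1
    rw [Finset.sum_congr (s₁ := SB M G) rfl fun (ψ : IrrCharacter G) hψ =>
      congrArg ((ψ : G → ℂ) 1 * ·) (c.drop hψ)] at h1
    simp only [oneI_apply, one_mul] at h0 h1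
    have e : (c.q : ℂ) * ∑ ψ ∈ SB M G, (d ψ : ℂ) * ((m ψ : ℂ) - 1) =
        (∑ ψ ∈ SB M G, (ψ : G → ℂ) 1 * ((ψ : G → ℂ) 1 - (c.q : ℂ))) -
          ∑ ψ ∈ SB M G, (ψ : G → ℂ) 1 * (ψ : G → ℂ) c.s := by
      rw [← Finset.sum_sub_distrib, Finset.mul_sum]
      refine Finset.sum_congr rfl fun ψ _ => ?_
      rw [show (ψ : G → ℂ) c.s = (ψ : G → ℂ) 1 - (c.q : ℂ) * (m ψ : ℂ) by rw [← hm]; ring, hd]
      ring
    refine (mul_eq_zero.1 (e.trans ?_)).resolve_left hq0
    linear_combination h1 - h0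
  have hpos : ∀ ψ ∈ SB M G, 1 ≤ m ψ := by
    intro ψ hψ
    by_contra hm0
    have hw : (ψ : G → ℂ) c.s = (ψ : G → ℂ) 1 := by
      have := hm ψ
      rw [show m ψ = 0 by omega, Nat.cast_zero, mul_zero, sub_eq_zero] at this
      exact this.symm
    have hψB := (mem_SB.1 hψ).1
    obtain ⟨R, hRn, hR⟩ := exists_charKernel (irr_isCharacter ψ.2)
    haveI := hRn
    have hPR : (c.P : Subgroup G) ≤ R := fun a ha => (hR a).2 (by
      by_cases ha1 : a = 1
      · rw [ha1]
      · rw [c.value_P ψ ha ha1, hw])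
    have htop : R ⊔ Subgroup.centralizer ((c.P : Subgroup G) : Set G) = ⊤ := by
      have hfr := Sylow.normalizer_sup_eq_top' c.P hPR
      have hn : (R ⊔ Subgroup.centralizer ((c.P : Subgroup G) : Set G)).Normal := by
        rw [← Subgroup.normalizer_eq_top_iff, eq_top_iff, ← hfr]
        refine sup_le (fun g hg => ?_) ?_
        · refine Subgroup.mem_normalizer_iff.2 fun x => ?_
          have key : ∀ g ∈ Subgroup.normalizer ((c.P : Subgroup G) : Set G),
              ∀ x ∈ R ⊔ Subgroup.centralizer ((c.P : Subgroup G) : Set G),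
              g * x * g⁻¹ ∈ R ⊔ Subgroup.centralizer ((c.P : Subgroup G) : Set G) := by
            intro g hg x hx
            obtain ⟨r, hr, z, hz, rfl⟩ := Subgroup.mem_sup_of_normal_left.1 hx
            rw [show g * (r * z) * g⁻¹ = (g * r * g⁻¹) * (g * z * g⁻¹) by group]
            refine mul_mem (Subgroup.mem_sup_left (hRn.conj_mem r hr g)) (Subgroup.mem_sup_right ?_)
            exact (conj_mem_centralizer_iff (H := Subgroup.normalizer ((c.P : Subgroup G) : Set G))
              le_rfl ⟨g, hg⟩ z).2 hz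
          refine ⟨key g hg x, fun h => ?_⟩
          have := key g⁻¹ (inv_mem hg) _ h
          simpa [mul_assoc] using this
        · exact le_sup_left.trans Subgroup.le_normalizer
      exact c.eq_top_of_cent_le _ le_sup_right
    obtain ⟨K, hKodd, hKC, -, hKord, hdec, -⟩ := c.exists_oddPart
    obtain ⟨N, ρ, hρ⟩ := irr_isCharacter ψ.2
    have hker : ∀ r ∈ R, ρ r = 1 := fun r hr => by
      rw [Module.End.one_eq_id]
      refine (eq_id_iff ρ r).1 ?_
      rw [← Representation.char_one ρ, hρ]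
      exact (hR r).1 hr
    have habs : ∀ g : G, avgE ρ K * ρ g = avgE ρ K := by
      intro g
      obtain ⟨r, hr, z, hz, rfl⟩ := Subgroup.mem_sup_of_normal_left.1 (htop ▸ Subgroup.mem_top g)
      obtain ⟨a, ha, y, hy, rfl⟩ := hdec z hz
      rw [map_mul, map_mul, hker r hr, hker a (hPR ha), one_mul, one_mul, avgE_mul_of_mem ρ K hy]
    haveI : Fintype (⊤ : Subgroup G) := Fintype.ofFinite _
    have heq : avgE ρ K = avgE ρ (⊤ : Subgroup G) := by
      rw [← avgE_mul_of_le ρ (le_top : K ≤ ⊤), avgE_eq ρ (⊤ : Subgroup G), mul_smul_comm,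
        Finset.mul_sum, Finset.sum_congr rfl fun (a : (⊤ : Subgroup G)) _ => habs (a : G),
        Finset.sum_const, Finset.card_univ, ← Nat.card_eq_fintype_card,
        ← Nat.cast_smul_eq_nsmul ℂ, smul_smul,
        inv_mul_cancel₀ (Nat.cast_ne_zero.mpr Nat.card_pos.ne'), one_smul]
    have hzero := trace_avgE ρ K
    rw [heq, trace_avgE, hρ] at hzero
    have hsum0 : ∑ a : (⊤ : Subgroup G), (ψ : G → ℂ) (a : G) = 0 := by
      have h1 := irrC_orth ψ (oneI G)
      rw [if_neg (fun e : ψ = oneI G => (mem_SB.1 hψ).2 (e ▸ rfl)), classInner, mul_eq_zero, inv_eq_zero,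
        Nat.cast_eq_zero] at h1
      simp only [oneI_apply, map_one, mul_one] at h1
      rw [← h1.resolve_left Nat.card_pos.ne']
      exact Fintype.sum_equiv Subgroup.topEquiv.toEquiv _ _ fun _ => rfl
    rw [hsum0, mul_zero, eq_comm, mul_eq_zero, inv_eq_zero, Nat.cast_eq_zero] at hzero
    have hz := hzero.resolve_left Nat.card_pos.ne'
    have hd2 : ¬ 2 ∣ d ψ := by
      have := c.odd_degree ψ R (fun n hn => (hR n).1 hn) hPR
      rwa [charDegree, hd, Complex.natCast_re, Nat.floor_natCast] at this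
    have hd0 : (d ψ : ℂ) ≠ 0 := Nat.cast_ne_zero.2 (fun e : d ψ = 0 => hd2 (e ▸ dvd_zero 2))
    have hmem : MemLocalIdeal M (∑ a : K, ((ψ : G → ℂ) (a : G) / (d ψ : ℂ) - 1)) :=
      memLI_sum hP _ _ fun a _ => hd ψ ▸ c.value_congr hψB (hKC a.2)
    rw [Finset.sum_sub_distrib, ← Finset.sum_div, hz, zero_div, zero_sub, Finset.sum_const,
      nsmul_eq_mul, mul_one, Finset.card_univ, ← Nat.card_eq_fintype_card] at hmem
    exact hKodd ((memLI_natCast_iff c.hM _).1 (by simpa using memLI_neg hP hmem))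
  have hzero : ∀ ψ ∈ SB M G, d ψ * (m ψ - 1) = 0 := by
    refine (Finset.sum_eq_zero_iff).1 ?_
    apply Nat.cast_injective (R := ℂ)
    push_cast
    rw [← hcol]
    refine Finset.sum_congr rfl fun ψ hψ => ?_
    rw [Nat.cast_sub (hpos ψ hψ), Nat.cast_one]
  have hm1 : m χ = 1 := by
    rcases Nat.mul_eq_zero.1 (hzero χ hχ) with h | h
    · exact absurd (by rw [hd, h, Nat.cast_zero]) (irr_one_ne_zero χ.2)
    · have := hpos χ hχ
      omega
  have := hm χ
  rw [hm1, Nat.cast_one, mul_one] at this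
  rw [c.drop hχ, ← this]
  ring

end Ctx

end Cfsg.Agent.Char.ConstDrop
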